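import Groth.Agent.H22.Bezout
import Mathlib.Algebra.Module.FinitePresentation
import Mathlib.Algebra.Module.Torsion.Basic
import Mathlib.Algebra.Module.LocalizedModule.Basic
import Mathlib.RingTheory.Localization.FractionRing
import Mathlib.RingTheory.Localization.AtPrime.Basic
import Mathlib.RingTheory.Localization.Integer
import Mathlib.RingTheory.LocalRing.Basic
import Mathlib.LinearAlgebra.Dimension.Free
import Mathlib.LinearAlgebra.Dimension.StrongRankCondition
import Mathlib.LinearAlgebra.FiniteDimensional.Basic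
import Mathlib.RingTheory.Localization.Finiteness
import Mathlib.Tactic.LinearCombination

/-!
Finitely presented modules over Bézout domains.
-/

universe u

namespace Groth.Agent.H19.BezoutFP

open Module

variable {R : Type u} [CommRing R] [IsDomain R]

/-- A finitely generated module maps to a finite free one with kernel the torsion. -/
theorem exists_ker_eq_torsion (M : Type u) [AddCommGroup M] [Module R M] [Module.Finite R M] :
    ∃ (d : ℕ) (φ : M →ₗ[R] (Fin d → R)), LinearMap.ker φ = Submodule.torsion R M := by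
  classical
  let Q := FractionRing R
  let L := LocalizedModule (nonZeroDivisors R) M
  let f : M →ₗ[R] L := LocalizedModule.mkLinearMap (nonZeroDivisors R) M
  letI : Module Q L := inferInstanceAs (Module (Localization (nonZeroDivisors R)) L)
  haveI : Module.Finite Q L := Module.Finite.of_isLocalizedModule (nonZeroDivisors R) (Rₚ := Q) f
  let b := Module.finBasis Q L
  obtain ⟨n, g, hg⟩ := Module.Finite.exists_fin (R := R) (M := M)
  let s : Finset (Fin n × Fin (Module.finrank Q L)) := Finset.univ
  obtain ⟨c, hc⟩ := IsLocalization.exist_integer_multiples (nonZeroDivisors R) s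
    (fun p => b.repr (f (g p.1)) p.2)
  have hint : ∀ (m : M) j, IsLocalization.IsInteger R ((c : R) • b.repr (f m) j) := by
    intro m
    have hm : m ∈ Submodule.span R (Set.range g) := by rw [hg]; trivial
    induction hm using Submodule.span_induction with
    | mem x hx => obtain ⟨i, rfl⟩ := hx; exact fun j => hc (i, j) (Finset.mem_univ _)
    | zero => intro j; simp [IsLocalization.isInteger_zero]
    | add x y _ _ hx hy =>
      intro j
      rw [map_add, map_add, Finsupp.add_apply, smul_add]
      exact IsLocalization.isInteger_add (hx j) (hy j)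
    | smul r x _ hx =>
      intro j
      obtain ⟨z, hz⟩ := hx j
      refine ⟨r * z, ?_⟩
      rw [map_smul, show b.repr (r • f x) = r • b.repr (f x) from (b.repr.restrictScalars R).map_smul r (f x), Finsupp.smul_apply, smul_comm, ← hz, map_mul,
        Algebra.smul_def]
  choose φ₀ hφ₀ using hint
  have hinj : Function.Injective (algebraMap R Q) := IsFractionRing.injective R Q
  let φ : M →ₗ[R] (Fin (Module.finrank Q L) → R) :=
    { toFun := φ₀
      map_add' := fun x y => funext fun j => hinj (by
        simp [hφ₀, map_add, smul_add])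
      map_smul' := fun r x => funext fun j => hinj (by
        simp only [RingHom.id_apply, Pi.smul_apply, smul_eq_mul, map_mul, hφ₀, map_smul,
          show b.repr (r • f x) = r • b.repr (f x) from (b.repr.restrictScalars R).map_smul r (f x), Finsupp.smul_apply]
        rw [← Algebra.smul_def, smul_comm]) }
  refine ⟨_, φ, Submodule.ext fun m => ?_⟩
  rw [LinearMap.mem_ker, Submodule.mem_torsion_iff]
  have h0 : φ m = 0 ↔ f m = 0 := by
    constructor
    · intro h
      apply b.repr.injective
      ext j
      have := congrArg (algebraMap R Q) (congrFun h j)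
      rw [Pi.zero_apply, map_zero] at this
      have h' : (c : R) • b.repr (f m) j = 0 := (hφ₀ m j).symm.trans this
      rw [Algebra.smul_def, mul_eq_zero] at h'
      simpa using h'.resolve_left ((map_ne_zero_iff _ hinj).mpr (nonZeroDivisors.ne_zero c.2))
    · intro h
      funext j
      apply hinj
      show algebraMap R Q (φ₀ m j) = algebraMap R Q 0
      rw [hφ₀, h]
      simp
  rw [h0, IsLocalizedModule.eq_zero_iff (nonZeroDivisors R) f]

theorem exists_free_prod [IsBezout R] (M : Type u) [AddCommGroup M] [Module R M] [Module.Finite R M] :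
    ∃ (r : ℕ) (e : M ≃ₗ[R] ((Fin r → R) × Submodule.torsion R M)),
      ∀ t : Submodule.torsion R M, (e t).2 = t := by
  classical
  obtain ⟨d, φ, hφ⟩ := exists_ker_eq_torsion (R := R) M
  have hfg : (LinearMap.range φ).FG := by
    rw [LinearMap.range_eq_map]
    exact Module.Finite.fg_top.map φ
  obtain ⟨hfree, hfin⟩ := Groth.Agent.H22.Bezout.free_of_fg (Fin d → R) (LinearMap.range φ) hfg
  let ι := (Module.finBasis R (LinearMap.range φ)).equivFun
  let q : M →ₗ[R] (Fin (Module.finrank R (LinearMap.range φ)) → R) := ι.toLinearMap ∘ₗ φ.rangeRestrict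
  have hq : Function.Surjective q := ι.surjective.comp φ.surjective_rangeRestrict
  have hker : ∀ m, q m = 0 ↔ m ∈ Submodule.torsion R M := fun m => by
    rw [← hφ, LinearMap.mem_ker]
    simp only [q, LinearMap.comp_apply, LinearEquiv.coe_coe, LinearEquiv.map_eq_zero_iff]
    rw [Subtype.ext_iff]
    rfl
  obtain ⟨s, hs⟩ := Module.projective_lifting_property q LinearMap.id hq
  have hs' : ∀ x, q (s x) = x := fun x => LinearMap.congr_fun hs x
  let pr : M →ₗ[R] Submodule.torsion R M := (LinearMap.id - s ∘ₗ q).codRestrict _ fun m => by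
    rw [← hker]
    simp [hs']
  refine ⟨_, LinearEquiv.ofLinearMap (q.prod pr) (s.coprod (Submodule.torsion R M).subtype)
    (LinearMap.ext fun x => ?_) (LinearMap.ext fun m => by simp [pr]), fun t => ?_⟩
  · obtain ⟨x, t⟩ := x
    have h0 := (hker t).mpr t.2
    refine Prod.ext ?_ (Subtype.ext ?_) <;> simp [pr, hs', h0]
  · have h0 := (hker t).mpr t.2
    exact Subtype.ext (by simp [pr, h0])

theorem dvd_total_atPrime [IsBezout R] (p : Ideal R) [p.IsPrime] (a b : Localization.AtPrime p) :
    a ∣ b ∨ b ∣ a := by
  obtain ⟨x, s, rfl⟩ := IsLocalization.exists_mk'_eq p.primeCompl a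
  obtain ⟨y, t, rfl⟩ := IsLocalization.exists_mk'_eq p.primeCompl b
  have red : ∀ (x : R) (s : p.primeCompl), Associated (IsLocalization.mk' (Localization.AtPrime p) x s)
      (algebraMap R _ x) := fun x s =>
    ⟨(IsLocalization.map_units (Localization.AtPrime p) s).unit, IsLocalization.mk'_spec _ x s⟩
  rw [(red x s).dvd_iff_dvd_left, (red x s).dvd_iff_dvd_right, (red y t).dvd_iff_dvd_left,
    (red y t).dvd_iff_dvd_right]
  obtain ⟨g, hg⟩ := IsBezout.span_pair_isPrincipal x y
  change Ideal.span {x, y} = Ideal.span {g} at hg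
  obtain ⟨x', rfl⟩ := Ideal.mem_span_singleton'.mp (hg ▸ Ideal.subset_span (by simp) : x ∈ Ideal.span {g})
  obtain ⟨y', rfl⟩ := Ideal.mem_span_singleton'.mp (hg ▸ Ideal.subset_span (by simp) : y ∈ Ideal.span {g})
  obtain ⟨u, v, he⟩ := Ideal.mem_span_pair.mp (hg.symm ▸ Ideal.mem_span_singleton_self g :
    g ∈ Ideal.span ({x' * g, y' * g} : Set R))
  rcases eq_or_ne g 0 with rfl | hg0
  · simp
  have h1 : u * x' + v * y' = 1 := mul_right_cancel₀ hg0 (by rw [one_mul]; linear_combination he)
  by_cases hx : x' ∈ p
  · have hy : y' ∉ p := fun hy => ‹p.IsPrime›.ne_top ((Ideal.eq_top_iff_one p).mpr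
      (h1 ▸ add_mem (p.mul_mem_left u hx) (p.mul_mem_left v hy)))
    right
    rw [map_mul, map_mul]
    exact mul_dvd_mul_right ((IsLocalization.map_units (Localization.AtPrime p)
      (⟨y', hy⟩ : p.primeCompl)).dvd) _
  · left
    rw [map_mul, map_mul]
    exact mul_dvd_mul_right ((IsLocalization.map_units (Localization.AtPrime p)
      (⟨x', hx⟩ : p.primeCompl)).dvd) _

section Smith

variable {V : Type u} [CommRing V] (htot : ∀ a b : V, a ∣ b ∨ b ∣ a)

include htot in
lemma exists_min {ι : Type*} (s : Finset ι) (hs : s.Nonempty) (c : ι → V) :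
    ∃ i ∈ s, ∀ j ∈ s, c i ∣ c j := by
  induction hs using Finset.Nonempty.cons_induction with
  | singleton a => exact ⟨a, Finset.mem_singleton_self a, fun j hj => by rw [Finset.mem_singleton.mp hj]⟩
  | cons a t ha _ ih =>
    obtain ⟨i, hi, hmin⟩ := ih
    rcases htot (c a) (c i) with h | h
    · refine ⟨a, Finset.mem_cons_self a t, fun j hj => ?_⟩
      rcases Finset.mem_cons.mp hj with rfl | hj
      · exact dvd_rfl
      · exact h.trans (hmin j hj)
    · refine ⟨i, Finset.mem_cons_of_mem hi, fun j hj => ?_⟩
      rcases Finset.mem_cons.mp hj with rfl | hj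
      · exact h
      · exact hmin j hj

include htot in
/-- Adapted coordinates for a finitely generated submodule of a free module over a valuation ring. -/
theorem smith : ∀ (n : ℕ) (N : Submodule V (Fin n → V)), N.FG →
    ∃ (e : (Fin n → V) ≃ₗ[V] (Fin n → V)) (d : Fin n → V), ∀ x, x ∈ N ↔ ∀ i, d i ∣ e x i := by
  classical
  intro n
  induction n with
  | zero =>
    intro N _
    exact ⟨LinearEquiv.refl _ _, Fin.elim0, fun x => ⟨fun _ i => i.elim0, fun _ =>
      Subsingleton.elim 0 x ▸ N.zero_mem⟩⟩
  | succ n ih =>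
    intro N hN
    obtain ⟨S, hS⟩ := hN
    rcases S.eq_empty_or_nonempty with hS0 | hSne
    · refine ⟨LinearEquiv.refl _ _, 0, fun x => ?_⟩
      rw [← hS, hS0, Finset.coe_empty, Submodule.span_empty, Submodule.mem_bot]
      simp [funext_iff]
    obtain ⟨⟨v, i₀⟩, hv, hmin⟩ := exists_min htot (S ×ˢ (Finset.univ : Finset (Fin (n + 1))))
      (hSne.product Finset.univ_nonempty) (fun p => p.1 p.2)
    replace hv : v ∈ S := (Finset.mem_product.mp hv).1
    set g := v i₀
    have hdiv : ∀ x ∈ N, ∀ i, g ∣ x i := by
      intro x hx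
      rw [← hS] at hx
      induction hx using Submodule.span_induction with
      | mem y hy => exact fun i => hmin (y, i) (Finset.mem_product.mpr ⟨hy, Finset.mem_univ i⟩)
      | zero => exact fun i => dvd_zero g
      | add y z _ _ hy hz => exact fun i => dvd_add (hy i) (hz i)
      | smul c y _ hy => exact fun i => (hy i).mul_left c
    have hvN : v ∈ N := hS ▸ Submodule.subset_span hv
    choose w₀ hw₀ using fun i => hdiv v hvN i
    let w : Fin (n + 1) → V := Function.update w₀ i₀ 1
    have hwv : g • w = v := by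
      funext i
      rcases eq_or_ne i i₀ with rfl | hi
      · simp [w, g]
      · simp [w, hi, (hw₀ i).symm]
    let w' : Fin (n + 1) → V := fun i => w (Equiv.swap 0 i₀ i)
    have hw'0 : w' 0 = 1 := by simp [w', w]
    let sw : (Fin (n + 1) → V) ≃ₗ[V] (Fin (n + 1) → V) := LinearEquiv.funCongrLeft V V (Equiv.swap 0 i₀)
    let k : Fin (n + 1) → V := w' - Pi.single 0 1
    have hk0 : k 0 = 0 := by simp [k, hw'0]
    let shear : (Fin (n + 1) → V) ≃ₗ[V] (Fin (n + 1) → V) :=
      LinearEquiv.ofLinearMap (LinearMap.id - (LinearMap.proj 0).smulRight k)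
        (LinearMap.id + (LinearMap.proj 0).smulRight k)
        (LinearMap.ext fun x => by funext i; simp [hk0]) (LinearMap.ext fun x => by funext i; simp [hk0])
    let E := sw.trans shear
    have hEv : E v = g • Pi.single 0 1 := by
      funext i
      have hsv : sw v = g • w' := by
        rw [← hwv, map_smul]
        rfl
      show shear (sw v) i = _
      rw [hsv]
      simp [shear, k, hw'0, mul_sub]
    have hEdiv : ∀ x ∈ N, ∀ i, g ∣ E x i := by
      intro x hx i
      have h1 : ∀ i, g ∣ sw x i := fun i => hdiv x hx _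
      show g ∣ sw x i - sw x 0 * k i
      exact dvd_sub (h1 i) ((h1 0).mul_right _)
    let tl : (Fin (n + 1) → V) →ₗ[V] (Fin n → V) := LinearMap.funLeft V V Fin.succ
    let N' : Submodule V (Fin n → V) := N.map (tl ∘ₗ E.toLinearMap)
    obtain ⟨e', d', he'⟩ := ih N' (Submodule.FG.map _ ⟨S, hS⟩)
    let ext' : (Fin (n + 1) → V) ≃ₗ[V] (Fin (n + 1) → V) :=
      (Fin.consLinearEquiv V (fun _ : Fin (n + 1) => V)).symm ≪≫ₗ
        ((LinearEquiv.refl V V).prodCongr e') ≪≫ₗ (Fin.consLinearEquiv V (fun _ : Fin (n + 1) => V))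
    refine ⟨E.trans ext', Fin.cons g d', fun x => ?_⟩
    have h0 : ∀ y, ext' y 0 = y 0 := fun y => rfl
    have hsucc : ∀ y i, ext' y (Fin.succ i) = e' (tl y) i := fun y i => rfl
    rw [Fin.forall_fin_succ]
    simp only [LinearEquiv.trans_apply, Fin.cons_zero, Fin.cons_succ, h0, hsucc]
    rw [← he']
    constructor
    · exact fun hx => ⟨hEdiv x hx 0, ⟨x, hx, rfl⟩⟩
    · rintro ⟨h1, ⟨y, hy, hyx⟩⟩
      obtain ⟨c, hc⟩ := dvd_sub h1 (hEdiv y hy 0)
      have hE : E x = E (y + c • v) := by
        rw [map_add, map_smul, hEv]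
        funext i
        refine Fin.cases ?_ (fun i => ?_) i
        · simp [mul_comm c g, ← hc]
        · have : E y i.succ = E x i.succ := congrFun hyx i
          simp [this]
      rw [E.injective hE]
      exact add_mem hy (N.smul_mem c hvN)

end Smith

variable [IsBezout R]

/-- A torsion quotient of `R ^ n` by a finitely generated submodule is a retract of a finite sum of
cyclic torsion modules. -/
theorem retract_of_torsion (n : ℕ) (N : Submodule R (Fin n → R)) (hN : N.FG)
    (htors : ∀ x : Fin n → R, ∃ a : R, a ≠ 0 ∧ a • x ∈ N) :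
    ∃ (m : ℕ) (f : Fin m → R), (∀ j, f j ≠ 0) ∧
      ∃ (i : ((Fin n → R) ⧸ N) →ₗ[R] ((j : Fin m) → R ⧸ Ideal.span {f j}))
        (p : ((j : Fin m) → R ⧸ Ideal.span {f j}) →ₗ[R] ((Fin n → R) ⧸ N)), p ∘ₗ i = LinearMap.id := by
  classical
  let T := (Fin n → R) ⧸ N
  let gens : Set (T →ₗ[R] T) :=
    {l | ∃ (f : R) (q : T →ₗ[R] R ⧸ Ideal.span {f}) (ι : (R ⧸ Ideal.span {f}) →ₗ[R] T),
      f ≠ 0 ∧ ι ∘ₗ q = l}
  let 𝔞 : Ideal R := (Submodule.span R gens).comap (LinearMap.toSpanSingleton R (T →ₗ[R] T) LinearMap.id)
  have htop : 𝔞 = ⊤ := by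
    by_contra hne
    obtain ⟨p, hp, hle⟩ := Ideal.exists_le_maximal 𝔞 hne
    let V := Localization.AtPrime p
    let am := algebraMap R V
    have hinj : Function.Injective am :=
      IsLocalization.injective V p.primeCompl_le_nonZeroDivisors
    let loc : (Fin n → R) →ₗ[R] (Fin n → V) := (Algebra.linearMap R V).compLeft (Fin n)
    let NV : Submodule V (Fin n → V) := Submodule.span V (loc '' (N : Set (Fin n → R)))
    obtain ⟨S, hS⟩ := hN
    have hNV : NV = Submodule.span V ((S.image loc : Finset (Fin n → V)) : Set (Fin n → V)) := by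
      refine le_antisymm (Submodule.span_le.mpr ?_) (Submodule.span_mono ?_)
      · rintro _ ⟨x, hx, rfl⟩
        rw [← hS] at hx
        induction hx using Submodule.span_induction with
        | mem y hy => exact Submodule.subset_span (by simpa using ⟨y, hy, rfl⟩)
        | zero => rw [map_zero]; exact zero_mem _
        | add y z _ _ hy hz => rw [map_add]; exact add_mem hy hz
        | smul c y _ hy =>
          rw [map_smul, ← algebraMap_smul V c]
          exact Submodule.smul_mem _ _ hy
      · rw [Finset.coe_image]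
        exact Set.image_mono (hS ▸ Submodule.subset_span)
    obtain ⟨e, D, hD⟩ := smith (dvd_total_atPrime p) n NV ⟨S.image loc, hNV.symm⟩
    have hloc1 : ∀ j, loc (Pi.single j 1) = Pi.single j 1 := by
      intro j; funext i
      rcases eq_or_ne i j with rfl | h <;> simp [loc, *]
    -- integral representatives
    obtain ⟨c, hc⟩ := IsLocalization.exist_integer_multiples_of_finset p.primeCompl
      (Finset.univ.image D)
    have hc' : ∀ j, IsLocalization.IsInteger R ((c : R) • D j) := fun j =>
      hc (D j) (Finset.mem_image_of_mem D (Finset.mem_univ j))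
    choose f hf using hc'
    have hf0 : ∀ j, f j ≠ 0 := by
      intro j hj
      obtain ⟨t, ht⟩ := IsLocalization.exist_integer_multiples_of_finset p.primeCompl
        (Finset.univ.image (e.symm (Pi.single j 1)))
      choose z hz using fun i => ht (e.symm (Pi.single j (1 : V)) i) (Finset.mem_image_of_mem _ (Finset.mem_univ i))
      obtain ⟨a, ha, haz⟩ := htors z
      have hz' : loc z = (t : R) • e.symm (Pi.single j 1) := funext fun i => hz i
      have hmem : loc (a • z) ∈ NV := Submodule.subset_span ⟨_, haz, rfl⟩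
      rw [map_smul, hz', smul_smul, ← algebraMap_smul V (a * (t : R))] at hmem
      have := (hD _).mp hmem j
      rw [map_smul, LinearEquiv.apply_symm_apply, Pi.smul_apply, Pi.single_eq_same, smul_eq_mul,
        mul_one] at this
      have hDj : D j = 0 := by
        have h := hf j
        rw [hj, map_zero, Algebra.smul_def] at h
        exact (mul_eq_zero.mp h.symm).resolve_left ((map_ne_zero_iff _ hinj).mpr fun h0 => c.2 (by rw [h0]; exact p.zero_mem))
      rw [hDj, zero_dvd_iff, map_eq_zero_iff _ hinj] at this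
      exact mul_ne_zero ha (fun h0 => t.2 (by rw [h0]; exact p.zero_mem)) this
    let U : Fin n → Fin n → V := fun l j => e (Pi.single l 1) j
    let U' : Fin n → Fin n → V := fun j l => e.symm (Pi.single j 1) l
    obtain ⟨t, ht⟩ := IsLocalization.exist_integer_multiples_of_finset p.primeCompl
      ((Finset.univ : Finset (Fin n × Fin n)).image (fun q => U q.1 q.2) ∪
        (Finset.univ : Finset (Fin n × Fin n)).image (fun q => U' q.1 q.2))
    choose A hA using fun l j => ht (U l j)
      (Finset.mem_union_left _ (Finset.mem_image.mpr ⟨(l, j), Finset.mem_univ _, rfl⟩))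
    choose B hB using fun j l => ht (U' j l)
      (Finset.mem_union_right _ (Finset.mem_image.mpr ⟨(j, l), Finset.mem_univ _, rfl⟩))
    have hmemN : ∀ y : Fin n → R, loc y ∈ NV → ∃ s ∉ p, s • y ∈ N := by
      intro y hy
      have key : ∀ z ∈ NV, ∃ s : R, s ∉ p ∧ ∃ x ∈ N, s • z = loc x := by
        intro z hz
        induction hz using Submodule.span_induction with
        | mem z hz =>
          obtain ⟨x, hx, rfl⟩ := hz
          exact ⟨1, fun h => hp.ne_top ((Ideal.eq_top_iff_one p).mpr h), x, hx, one_smul _ _⟩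
        | zero => exact ⟨1, fun h => hp.ne_top ((Ideal.eq_top_iff_one p).mpr h), 0, zero_mem _, by simp⟩
        | add z z' _ _ hz hz' =>
          obtain ⟨s, hs, x, hx, e1⟩ := hz
          obtain ⟨s', hs', x', hx', e2⟩ := hz'
          exact ⟨s * s', fun h => (hp.isPrime.mem_or_mem h).elim hs hs', s' • x + s • x',
            add_mem (N.smul_mem _ hx) (N.smul_mem _ hx'),
            by rw [map_add, map_smul, map_smul, ← e1, ← e2, smul_add, smul_smul, smul_smul, mul_comm s' s]⟩
        | smul a z _ hz =>
          obtain ⟨s, hs, x, hx, e1⟩ := hz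
          obtain ⟨r, u, rfl⟩ := IsLocalization.exists_mk'_eq p.primeCompl a
          refine ⟨(u : R) * s, fun h => (hp.isPrime.mem_or_mem h).elim u.2 hs, r • x,
            N.smul_mem _ hx, ?_⟩
          rw [map_smul, ← e1, mul_smul, smul_comm s, ← smul_assoc, Algebra.smul_def (u : R),
            IsLocalization.mk'_spec', algebraMap_smul]
      obtain ⟨s, hs, x, hx, e1⟩ := key _ hy
      refine ⟨s, hs, ?_⟩
      have : s • y = x := funext fun i => hinj (by
        have h := congrFun e1 i
        simpa [loc, Algebra.smul_def] using h)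
      rw [this]; exact hx
    have hy : ∀ j, ∃ s ∉ p, s • (f j • fun l => B j l) ∈ N := by
      intro j
      refine hmemN _ ?_
      have hloc : loc (f j • fun l => B j l) = (am (f j)) • ((t : R) • e.symm (Pi.single j 1)) := by
        rw [map_smul]
        show f j • _ = _
        rw [← algebraMap_smul V (f j)]
        congr 1
        funext l
        exact hB j l
      rw [hloc, hD, ← algebraMap_smul V (t : R)]
      intro i
      simp only [map_smul, LinearEquiv.apply_symm_apply, Pi.smul_apply, smul_eq_mul]
      rcases eq_or_ne i j with rfl | h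
      · refine Dvd.dvd.mul_right ?_ _
        show D i ∣ algebraMap R V (f i)
        rw [hf, Algebra.smul_def]
        exact dvd_mul_left _ _
      · rw [Pi.single_eq_of_ne h]; simp
    choose sj hsj hsjN using hy
    have hq : ∀ (j : Fin n) (x : Fin n → R), x ∈ N →
        ∃ s ∉ p, f j ∣ s * ∑ l, x l * A l j := by
      intro j x hx
      have hxv : D j ∣ e (loc x) j := (hD _).mp (Submodule.subset_span ⟨x, hx, rfl⟩) j
      obtain ⟨w, hw⟩ := hxv
      obtain ⟨r, u, rfl⟩ := IsLocalization.exists_mk'_eq p.primeCompl w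
      refine ⟨(u : R) * (c : R), fun h => (hp.isPrime.mem_or_mem h).elim u.2 c.2, r * (t : R), hinj ?_⟩
      have h1 : am (∑ l, x l * A l j) = am (t : R) * e (loc x) j := by
        have hx' : loc x = ∑ l, am (x l) • (Pi.single l 1 : Fin n → V) := by
          funext i
          simp [loc, am, Pi.single_apply, Algebra.smul_def]
        rw [hx', map_sum e, Finset.sum_apply, map_sum, Finset.mul_sum]
        refine Finset.sum_congr rfl fun l _ => ?_
        rw [map_mul, map_smul, Pi.smul_apply, smul_eq_mul, show am (A l j) = (t : R) • U l j from hA l j,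
          Algebra.smul_def]
        ring
      have hfj : am (f j) = am (c : R) * D j := (hf j).trans (Algebra.smul_def _ _)
      rw [map_mul, map_mul am (u : R), h1, hw, map_mul, map_mul, hfj]
      have := IsLocalization.mk'_spec' V r u
      linear_combination (am (c : R) * am (t : R) * D j) * this
    choose sq hsq hsqd using hq
    let s₀ : R := ∏ j, sj j * ∏ x ∈ S.attach, sq j x.1 (hS ▸ Submodule.subset_span x.2)
    have hs₀ : s₀ ∉ p := by
      refine Finset.prod_induction (M := R) _ (fun a => a ∉ p)
        (fun a b ha hb h => (hp.isPrime.mem_or_mem h).elim ha hb)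
        (fun h => hp.ne_top ((Ideal.eq_top_iff_one p).mpr h)) fun j _ => ?_
      intro h
      refine (hp.isPrime.mem_or_mem h).elim (hsj j) ?_
      exact Finset.prod_induction (M := R) _ (fun a => a ∉ p)
        (fun a b ha hb h => (hp.isPrime.mem_or_mem h).elim ha hb)
        (fun h => hp.ne_top ((Ideal.eq_top_iff_one p).mpr h)) fun x _ => hsq j _ _
    have hsj' : ∀ j, sj j ∣ s₀ := fun j => (dvd_mul_right _ _).trans (Finset.dvd_prod_of_mem _ (Finset.mem_univ j))
    have hsq' : ∀ (j : Fin n) (x : {x // x ∈ S}), sq j x.1 (hS ▸ Submodule.subset_span x.2) ∣ s₀ :=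
      fun j x => ((Finset.dvd_prod_of_mem (fun y : {x // x ∈ S} => sq j y.1 (hS ▸ Submodule.subset_span y.2))
        (Finset.mem_attach S x)).trans (dvd_mul_left _ (sj j))).trans
        (Finset.dvd_prod_of_mem (fun j => sj j * ∏ y ∈ S.attach, sq j y.1 (hS ▸ Submodule.subset_span y.2))
          (Finset.mem_univ j))
    let q₀ : Fin n → ((Fin n → R) →ₗ[R] R) := fun j => s₀ • ∑ l, A l j • LinearMap.proj l
    have hq₀ : ∀ j, N ≤ LinearMap.ker (((Ideal.span {f j}).mkQ) ∘ₗ q₀ j) := by
      intro j
      rw [← hS, Submodule.span_le]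
      intro x hx
      rw [SetLike.mem_coe, LinearMap.mem_ker, LinearMap.comp_apply, Submodule.mkQ_apply,
        Submodule.Quotient.mk_eq_zero, Ideal.mem_span_singleton]
      have h := (hsqd j x (hS ▸ Submodule.subset_span hx)).trans
        (mul_dvd_mul_right (hsq' j ⟨x, hx⟩) (∑ l, x l * A l j))
      simpa [q₀, mul_comm] using h
    have hι : ∀ j, Ideal.span {f j} ≤ LinearMap.ker
        (N.mkQ ∘ₗ LinearMap.toSpanSingleton R _ (s₀ • fun l => B j l)) := by
      intro j
      rw [Ideal.span_le, Set.singleton_subset_iff, SetLike.mem_coe, LinearMap.mem_ker,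
        LinearMap.comp_apply, Submodule.mkQ_apply, Submodule.Quotient.mk_eq_zero,
        LinearMap.toSpanSingleton_apply, smul_comm]
      obtain ⟨a, ha⟩ := hsj' j
      rw [ha, mul_comm, mul_smul]
      exact N.smul_mem a (hsjN j)
    have hsum : (s₀ * s₀ * ((t : R) * (t : R))) • (LinearMap.id : T →ₗ[R] T) =
        ∑ j, (Submodule.liftQ _ (N.mkQ ∘ₗ LinearMap.toSpanSingleton R _ (s₀ • fun l => B j l)) (hι j)) ∘ₗ
          (N.liftQ (((Ideal.span {f j}).mkQ) ∘ₗ q₀ j) (hq₀ j)) := by
      refine Submodule.linearMap_qext N (LinearMap.ext fun x => ?_)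
      simp only [LinearMap.comp_apply, LinearMap.smul_apply, LinearMap.id_apply, LinearMap.sum_apply,
        Submodule.mkQ_apply, Submodule.liftQ_apply, LinearMap.toSpanSingleton_apply]
      rw [← Submodule.Quotient.mk_smul]
      simp only [← Submodule.mkQ_apply, ← map_sum]
      congr 1
      funext i
      apply hinj
      have h1 : ∀ l : Fin n, ∑ j, U l j * U' j i = if i = l then 1 else 0 := by
        intro l
        have he : e (Pi.single l 1) = ∑ j, e (Pi.single l (1 : V)) j • (Pi.single j 1 : Fin n → V) := by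
          funext i; simp [Pi.single_apply]
        have := congrArg (fun y => e.symm y i) he
        simp only [LinearEquiv.symm_apply_apply, map_sum, map_smul, Finset.sum_apply, Pi.smul_apply,
          smul_eq_mul, Pi.single_apply] at this
        exact this.symm
      have hA' : ∀ l j, am (A l j) = am (t : R) * U l j := fun l j => (hA l j).trans (Algebra.smul_def _ _)
      have hB' : ∀ j l, am (B j l) = am (t : R) * U' j l := fun j l => (hB j l).trans (Algebra.smul_def _ _)
      simp only [q₀, Pi.smul_apply, smul_eq_mul, LinearMap.smul_apply, LinearMap.sum_apply,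
        LinearMap.proj_apply, map_mul, map_sum, Finset.sum_apply]
      simp only [show (algebraMap R V) = am from rfl] at *
      simp only [hA', hB']
      rw [Finset.sum_congr rfl (fun j _ => by rw [Finset.mul_sum, Finset.sum_mul]), Finset.sum_comm]
      have h2 : ∀ l, ∑ j, am s₀ * (am (t : R) * U l j * am (x l)) * (am s₀ * (am (t : R) * U' j i)) =
          am s₀ * am s₀ * (am (t : R) * am (t : R)) * am (x l) * if i = l then 1 else 0 := by
        intro l
        rw [← h1 l, Finset.mul_sum]
        exact Finset.sum_congr rfl fun j _ => by ring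
      rw [Finset.sum_congr rfl fun l _ => h2 l]
      simp [mul_ite]
    apply fun h => hs₀ ((hp.isPrime.mem_or_mem h).elim
      (fun h => (hp.isPrime.mem_or_mem h).elim id id)
      (fun h => absurd ((hp.isPrime.mem_or_mem h).elim id id) t.2))
    refine hle ?_
    show (s₀ * s₀ * ((t : R) * (t : R))) • (LinearMap.id : T →ₗ[R] T) ∈ Submodule.span R gens
    rw [hsum]
    exact Submodule.sum_mem _ fun j _ => Submodule.subset_span ⟨f j, _, _, hf0 j, rfl⟩
  have hid : (LinearMap.id : T →ₗ[R] T) ∈ Submodule.span R gens := by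
    have : (1 : R) ∈ 𝔞 := by rw [htop]; trivial
    simpa [𝔞] using this
  obtain ⟨m, c, g, hg⟩ := Submodule.mem_span_set'.mp hid
  have hgm : ∀ j : Fin m, (g j : T →ₗ[R] T) ∈ gens := fun j => (g j).2
  choose f q ι hf0 hfq using hgm
  refine ⟨m, f, hf0, LinearMap.pi fun j => c j • q j, ∑ j, ι j ∘ₗ LinearMap.proj j, ?_⟩
  conv_rhs => rw [← hg]
  refine LinearMap.ext fun x => ?_
  simp [← hfq]

theorem main (M : Type u) [AddCommGroup M] [Module R M] [Module.FinitePresentation R M] :
    (∃ r : ℕ, Nonempty (M ≃ₗ[R] ((Fin r → R) × Submodule.torsion R M))) ∧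
      ∃ (n : ℕ) (f : Fin n → R), (∀ j, f j ≠ 0) ∧
        ∃ (i : Submodule.torsion R M →ₗ[R] ((j : Fin n) → R ⧸ Ideal.span {f j}))
          (p : ((j : Fin n) → R ⧸ Ideal.span {f j}) →ₗ[R] Submodule.torsion R M),
          p ∘ₗ i = LinearMap.id := by
  classical
  obtain ⟨r, e, he⟩ := exists_free_prod (R := R) M
  refine ⟨⟨r, ⟨e⟩⟩, ?_⟩
  let pr : M →ₗ[R] Submodule.torsion R M := LinearMap.snd R _ _ ∘ₗ e.toLinearMap
  have hpr : Function.Surjective pr := fun t => ⟨e.symm (0, t), by simp [pr]⟩
  haveI : Module.FinitePresentation R (Submodule.torsion R M) := by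
    refine Module.finitePresentation_of_surjective pr hpr ?_
    have hker : LinearMap.ker pr = LinearMap.range (e.symm.toLinearMap ∘ₗ LinearMap.inl R (Fin r → R) (Submodule.torsion R M)) := by
      ext m
      constructor
      · intro hm
        refine ⟨(e m).1, ?_⟩
        apply e.injective
        have hm' : (e m).2 = 0 := hm
        simp [Prod.ext_iff, hm']
      · rintro ⟨a, rfl⟩; simp [pr]
    rw [hker, LinearMap.range_eq_map]
    exact Module.Finite.fg_top.map _
  obtain ⟨n, N, eT, hN⟩ := Module.FinitePresentation.exists_fin R (Submodule.torsion R M)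
  obtain ⟨m, f, hf, i, p, hip⟩ := retract_of_torsion n N hN fun x => by
    obtain ⟨a, ha⟩ := (Submodule.mem_torsion_iff _).mp (eT.symm (Submodule.Quotient.mk x)).2
    refine ⟨a, nonZeroDivisors.ne_zero a.2, ?_⟩
    rw [← Submodule.Quotient.mk_eq_zero, Submodule.Quotient.mk_smul,
      ← eT.apply_symm_apply (Submodule.Quotient.mk x), ← map_smul]
    exact (LinearEquiv.map_eq_zero_iff _).mpr (Subtype.ext ha)
  refine ⟨m, f, hf, i ∘ₗ eT.toLinearMap, eT.symm.toLinearMap ∘ₗ p, LinearMap.ext fun t => ?_⟩
  have := LinearMap.congr_fun hip (eT t)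
  simp only [LinearMap.comp_apply, LinearEquiv.coe_coe, LinearMap.id_apply] at this ⊢
  rw [this, LinearEquiv.symm_apply_apply]

end Groth.Agent.H19.BezoutFP
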