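import Mathlib.LinearAlgebra.Matrix.Transvection
import Mathlib.LinearAlgebra.Matrix.MvPolynomial
import Mathlib.Algebra.MvPolynomial.Funext
import Mathlib.FieldTheory.IsAlgClosed.AlgebraicClosure
import Mathlib.RingTheory.Spectrum.Prime.Basic
import Mathlib.RingTheory.Polynomial.Basic
import Mathlib.RingTheory.Nilpotent.Lemmas
import Mathlib.Tactic.FieldSimp

/-!
Polynomials in the matrix entries without zeros on `GL n` are constants times powers of `det`.
-/

universe u

open Matrix

namespace Groth.Agent.H19.DetUnits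

variable {n : ℕ}

section Field

variable {K : Type u} [Field K]

/-- Evaluation at a matrix. -/
noncomputable def ev (f : MvPolynomial (Fin n × Fin n) K) (M : Matrix (Fin n) (Fin n) K) : K :=
  MvPolynomial.eval (fun p : Fin n × Fin n => M p.1 p.2) f

lemma ev_det (M : Matrix (Fin n) (Fin n) K) : ev (mvPolynomialX (Fin n) (Fin n) K).det M = M.det := by
  rw [ev, RingHom.map_det]
  congr 1
  ext i j
  simp [mvPolynomialX]

/-- `diag(t, t⁻¹)` is a product of transvections. -/
lemma whitehead {i j : Fin n} (hij : i ≠ j) (t : K) (ht : t ≠ 0) :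
    transvection i j t * (transvection j i (-t⁻¹) * (transvection i j t *
      (transvection i j (-1) * (transvection j i 1 * transvection i j (-1))))) =
    diagonal (Function.update (Function.update 1 i t) j t⁻¹) := by
  ext a b
  have hji := hij.symm
  by_cases hai : a = i <;> by_cases haj : a = j
  · exact absurd (hai.symm.trans haj) hij
  all_goals
    by_cases hbi : b = i <;> by_cases hbj : b = j
    · exact absurd (hbi.symm.trans hbj) hij
    all_goals
      subst_vars
      simp_all [transvection, Matrix.add_mul, Matrix.mul_add, Matrix.single_mul_single_same,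
        Matrix.single_mul_single_of_ne, Matrix.diagonal_apply, Matrix.one_apply, Matrix.single_apply,
        eq_comm]

variable [IsAlgClosed K] (f : MvPolynomial (Fin n × Fin n) K)
  (hf : ∀ M : Matrix (Fin n) (Fin n) K, M.det ≠ 0 → ev f M ≠ 0)

include hf

omit hf in
lemma line (F : Fin n × Fin n → Polynomial K) :
    ∃ q : Polynomial K, ∀ t, q.eval t = ev f (Matrix.of fun i j => (F (i, j)).eval t) :=
  ⟨MvPolynomial.aeval F f, fun t => by
    rw [← Polynomial.coe_aeval_eq_eval, ← AlgHom.comp_apply, MvPolynomial.comp_aeval,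
      MvPolynomial.aeval_eq_eval]
    simp [ev]⟩

lemma ev_transvection_mul {i j : Fin n} (hij : i ≠ j) (t : K) (M : Matrix (Fin n) (Fin n) K)
    (hM : M.det ≠ 0) : ev f (transvection i j t * M) = ev f M := by
  obtain ⟨q, hq⟩ := line f fun ab =>
    Polynomial.C (M ab.1 ab.2) + (if ab.1 = i then Polynomial.C (M j ab.2) * Polynomial.X else 0)
  have hq' : ∀ s, q.eval s = ev f (transvection i j s * M) := by
    intro s
    rw [hq]
    congr 1
    ext a b
    rcases eq_or_ne a i with rfl | h
    · simp; ring
    · simp [h]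
  have hne : ∀ s, q.eval s ≠ 0 := by
    intro s
    rw [hq']
    exact hf _ (by rwa [det_mul, det_transvection_of_ne _ _ hij, one_mul])
  have hd : q.degree = 0 := by
    by_contra h
    obtain ⟨s, hs⟩ := IsAlgClosed.exists_root q h
    exact hne s hs
  rw [Polynomial.eq_C_of_degree_eq_zero hd] at hq'
  have h0 := hq' 0
  rw [transvection_zero, one_mul] at h0
  rw [← hq', ← h0]
  simp

lemma ev_mul_transvection {i j : Fin n} (hij : i ≠ j) (t : K) (M : Matrix (Fin n) (Fin n) K)
    (hM : M.det ≠ 0) : ev f (M * transvection i j t) = ev f M := by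
  obtain ⟨q, hq⟩ := line f fun ab =>
    Polynomial.C (M ab.1 ab.2) + (if ab.2 = j then Polynomial.C (M ab.1 i) * Polynomial.X else 0)
  have hq' : ∀ s, q.eval s = ev f (M * transvection i j s) := by
    intro s
    rw [hq]
    congr 1
    ext a b
    rcases eq_or_ne b j with rfl | h
    · simp; ring
    · simp [h]
  have hne : ∀ s, q.eval s ≠ 0 := by
    intro s
    rw [hq']
    exact hf _ (by rwa [det_mul, det_transvection_of_ne _ _ hij, mul_one])
  have hd : q.degree = 0 := by
    by_contra h
    obtain ⟨s, hs⟩ := IsAlgClosed.exists_root q h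
    exact hne s hs
  rw [Polynomial.eq_C_of_degree_eq_zero hd] at hq'
  have h0 := hq' 0
  rw [transvection_zero, mul_one] at h0
  rw [← hq', ← h0]
  simp

lemma ev_left (L : List (TransvectionStruct (Fin n) K)) (M : Matrix (Fin n) (Fin n) K)
    (hM : M.det ≠ 0) : ev f ((L.map TransvectionStruct.toMatrix).prod * M) = ev f M := by
  induction L with
  | nil => simp
  | cons T L ih =>
    rw [List.map_cons, List.prod_cons, Matrix.mul_assoc]
    exact (ev_transvection_mul f hf T.hij T.c _
      (by rwa [det_mul, TransvectionStruct.det_toMatrix_prod, one_mul])).trans ih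

lemma ev_right (L : List (TransvectionStruct (Fin n) K)) (M : Matrix (Fin n) (Fin n) K)
    (hM : M.det ≠ 0) : ev f (M * (L.map TransvectionStruct.toMatrix).prod) = ev f M := by
  induction L generalizing M with
  | nil => simp
  | cons T L ih =>
    rw [List.map_cons, List.prod_cons, ← Matrix.mul_assoc,
      ih _ (by rwa [det_mul, TransvectionStruct.det, mul_one])]
    exact ev_mul_transvection f hf T.hij T.c M hM

lemma ev_diagonal (i₀ : Fin n) (D : Fin n → K) (hD : ∀ i, D i ≠ 0) :
    ev f (diagonal D) = ev f (diagonal (Function.update 1 i₀ (∏ i, D i))) := by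
  classical
  suffices h : ∀ s : Finset (Fin n), i₀ ∉ s → ev f (diagonal D) =
      ev f (diagonal fun a => if a = i₀ then D i₀ * ∏ i ∈ s, D i else if a ∈ s then 1 else D a) by
    rw [h (Finset.univ.erase i₀) (by simp), Finset.mul_prod_erase _ _ (Finset.mem_univ i₀)]
    congr 2
    funext a
    rcases eq_or_ne a i₀ with rfl | ha <;> simp [*]
  intro s
  induction s using Finset.induction_on with
  | empty =>
    intro _
    congr 2
    funext a
    rcases eq_or_ne a i₀ with rfl | ha <;> simp [*]
  | @insert j s hj ih =>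
    intro hi
    simp only [Finset.mem_insert, not_or] at hi
    rw [ih hi.2]
    set E := fun a => if a = i₀ then D i₀ * ∏ i ∈ s, D i else if a ∈ s then 1 else D a with hE
    have hdE : (diagonal E).det ≠ 0 := by
      rw [det_diagonal, Finset.prod_ne_zero_iff]
      intro a _
      simp only [hE]
      split_ifs
      · exact mul_ne_zero (hD _) (Finset.prod_ne_zero_iff.mpr fun i _ => hD i)
      · exact one_ne_zero
      · exact hD a
    have hw := whitehead (Ne.intro hi.1) (D j) (hD j)
    let L : List (TransvectionStruct (Fin n) K) :=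
      [⟨i₀, j, hi.1, D j⟩, ⟨j, i₀, Ne.symm hi.1, -(D j)⁻¹⟩, ⟨i₀, j, hi.1, D j⟩, ⟨i₀, j, hi.1, -1⟩,
        ⟨j, i₀, Ne.symm hi.1, 1⟩, ⟨i₀, j, hi.1, -1⟩]
    rw [← ev_left f hf L _ hdE]
    congr 1
    simp only [L, List.map_cons, List.map_nil, List.prod_cons, List.prod_nil, mul_one,
      TransvectionStruct.toMatrix_mk]
    rw [hw, diagonal_mul_diagonal]
    congr 1
    funext a
    rcases eq_or_ne a i₀ with rfl | ha
    · simp [hE, hi.1, hj]; ring
    · rcases eq_or_ne a j with rfl | haj <;> simp [*]

theorem exists_eq_C_mul_det_pow (hn : 0 < n) :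
    ∃ (c : K) (m : ℕ), c ≠ 0 ∧ f = MvPolynomial.C c * (mvPolynomialX (Fin n) (Fin n) K).det ^ m := by
  classical
  let i₀ : Fin n := ⟨0, hn⟩
  obtain ⟨q, hq⟩ := line f fun ab =>
    if ab.1 = ab.2 then (if ab.1 = i₀ then Polynomial.X else 1) else 0
  have hq' : ∀ t, q.eval t = ev f (diagonal (Function.update 1 i₀ t)) := by
    intro t
    rw [hq]
    congr 1
    ext a b
    simp [diagonal, Function.update_apply, apply_ite (Polynomial.eval t)]
  have hroots : ∀ x ∈ q.roots, x = 0 := by
    intro x hx
    by_contra h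
    refine hf _ ?_ ((hq' x).symm.trans (Polynomial.mem_roots'.mp hx).2)
    rw [det_diagonal, Finset.prod_ne_zero_iff]
    intro a _
    rcases eq_or_ne a i₀ with rfl | ha <;> simp [*]
  have hspl := (IsAlgClosed.splits q).eq_prod_roots
  rw [Multiset.eq_replicate_card.mpr hroots, Multiset.map_replicate, Multiset.prod_replicate,
    map_zero, sub_zero] at hspl
  have h1 : q.eval 1 ≠ 0 := by
    rw [hq']
    refine hf _ ?_
    simp
  have hc : q.leadingCoeff ≠ 0 := by
    intro h0
    rw [Polynomial.leadingCoeff_eq_zero] at h0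
    simp [h0] at h1
  refine ⟨q.leadingCoeff, q.roots.card, hc, ?_⟩
  refine mul_right_cancel₀ (det_mvPolynomialX_ne_zero (m := Fin n) (R := K)) ?_
  refine MvPolynomial.funext fun v => ?_
  set M : Matrix (Fin n) (Fin n) K := Matrix.of fun i j => v (i, j)
  have hv : ∀ g : MvPolynomial (Fin n × Fin n) K, MvPolynomial.eval v g = ev g M := fun g => rfl
  simp only [map_mul, map_pow, MvPolynomial.eval_C]
  simp only [hv, ev_det]
  rcases eq_or_ne M.det 0 with h0 | h0
  · simp [h0]
  congr 1
  obtain ⟨L, L', D, hM⟩ := Pivot.exists_list_transvec_mul_diagonal_mul_list_transvec M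
  have hD : (diagonal D).det ≠ 0 := by
    rw [hM, det_mul, det_mul, TransvectionStruct.det_toMatrix_prod,
      TransvectionStruct.det_toMatrix_prod, one_mul, mul_one] at h0
    exact h0
  have hdet : M.det = ∏ i, D i := by
    rw [hM, det_mul, det_mul, TransvectionStruct.det_toMatrix_prod,
      TransvectionStruct.det_toMatrix_prod, one_mul, mul_one, det_diagonal]
  conv_lhs => rw [hM]
  rw [ev_right f hf L' _ (by rwa [det_mul, TransvectionStruct.det_toMatrix_prod, one_mul]),
    ev_left f hf L _ hD, ev_diagonal f hf i₀ D (by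
      rw [det_diagonal, Finset.prod_ne_zero_iff] at hD
      exact fun i => hD i (Finset.mem_univ i)), ← hq', ← hdet]
  conv_lhs => rw [hspl]
  simp

end Field

section Ring

variable {A : Type u} [CommRing A]

lemma map_det_X {B : Type u} [CommRing B] (π : A →+* B) :
    MvPolynomial.map π (mvPolynomialX (Fin n) (Fin n) A).det = (mvPolynomialX (Fin n) (Fin n) B).det := by
  rw [RingHom.map_det]
  congr 1
  ext i j
  simp [mvPolynomialX]

theorem exists_eq_C_unit_mul_det_pow [IsReduced A] [Nontrivial A]
    (hconn : ∀ e : A, IsIdempotentElem e → e = 0 ∨ e = 1) (hn : 0 < n)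
    (f g : MvPolynomial (Fin n × Fin n) A) (N : ℕ)
    (hfg : f * g = (mvPolynomialX (Fin n) (Fin n) A).det ^ N) :
    ∃ (c : Aˣ) (j : ℕ), f = MvPolynomial.C (c : A) * (mvPolynomialX (Fin n) (Fin n) A).det ^ j := by
  classical
  let i₀ : Fin n := ⟨0, hn⟩
  let F : ∀ (B : Type u) [CommRing B], Fin n × Fin n → Polynomial B := fun B _ ab =>
    if ab.1 = ab.2 then (if ab.1 = i₀ then Polynomial.X else 1) else 0
  let π : ∀ p : PrimeSpectrum A, A →+* AlgebraicClosure (FractionRing (A ⧸ p.asIdeal)) := fun p =>
    (algebraMap _ _).comp ((algebraMap (A ⧸ p.asIdeal) (FractionRing (A ⧸ p.asIdeal))).comp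
      (Ideal.Quotient.mk _))
  have hker : ∀ p a, π p a = 0 ↔ a ∈ p.asIdeal := fun p a => by
    simp [π, Ideal.Quotient.eq_zero_iff_mem]
  have hzero : ∀ a : A, (∀ p, π p a = 0) → a = 0 := by
    intro a ha
    have : a ∈ nilradical A := by
      rw [nilradical_eq_sInf, Ideal.mem_sInf]
      exact fun {J} hJ => (hker ⟨J, hJ⟩ a).mp (ha _)
    rwa [nilradical_eq_zero] at this
  set P := MvPolynomial.aeval (F A) f with hP
  -- the image at each prime
  have hpt : ∀ p : PrimeSpectrum A, ∃ (c : AlgebraicClosure (FractionRing (A ⧸ p.asIdeal))) (j : ℕ),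
      c ≠ 0 ∧ MvPolynomial.map (π p) f = MvPolynomial.C c * (mvPolynomialX (Fin n) (Fin n) _).det ^ j ∧
        P.map (π p) = Polynomial.C c * Polynomial.X ^ j := by
    intro p
    have hne : ∀ M : Matrix (Fin n) (Fin n) (AlgebraicClosure (FractionRing (A ⧸ p.asIdeal))),
        M.det ≠ 0 → ev (MvPolynomial.map (π p) f) M ≠ 0 := by
      intro M hM h0
      have := congrArg (fun h => ev (MvPolynomial.map (π p) h) M) hfg
      simp only [ev, map_mul, map_pow] at this h0
      rw [h0, zero_mul, map_det_X] at this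
      exact pow_ne_zero N hM ((congrArg (· ^ N) (ev_det M).symm).trans this.symm)
    obtain ⟨c, j, hc, hj⟩ := exists_eq_C_mul_det_pow _ hne hn
    refine ⟨c, j, hc, hj, ?_⟩
    have hnat : P.map (π p) = MvPolynomial.aeval (F _) (MvPolynomial.map (π p) f) := by
      have : (Polynomial.mapRingHom (π p)).comp (MvPolynomial.aeval (F A)).toRingHom =
          (MvPolynomial.aeval (F _)).toRingHom.comp (MvPolynomial.map (π p)) := by
        refine MvPolynomial.ringHom_ext (fun a => by simp) fun ab => ?_
        simp [F, apply_ite (Polynomial.map (π p))]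
      exact RingHom.congr_fun this f
    have hdet : MvPolynomial.aeval (F (AlgebraicClosure (FractionRing (A ⧸ p.asIdeal))))
        (mvPolynomialX (Fin n) (Fin n) (AlgebraicClosure (FractionRing (A ⧸ p.asIdeal)))).det = Polynomial.X := by
      rw [AlgHom.map_det, show (MvPolynomial.aeval (F (AlgebraicClosure (FractionRing (A ⧸ p.asIdeal)))) :
          MvPolynomial (Fin n × Fin n) (AlgebraicClosure (FractionRing (A ⧸ p.asIdeal))) →ₐ[AlgebraicClosure (FractionRing (A ⧸ p.asIdeal))]
            Polynomial (AlgebraicClosure (FractionRing (A ⧸ p.asIdeal)))).mapMatrix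
          (mvPolynomialX (Fin n) (Fin n) (AlgebraicClosure (FractionRing (A ⧸ p.asIdeal)))) =
        (diagonal (Function.update 1 i₀ Polynomial.X) :
          Matrix (Fin n) (Fin n) (Polynomial (AlgebraicClosure (FractionRing (A ⧸ p.asIdeal))))) by
          ext a b; simp [mvPolynomialX, F, diagonal, Function.update_apply],
        det_diagonal, Finset.prod_update_of_mem (Finset.mem_univ i₀)]
      simp
    rw [hnat, hj, map_mul, map_pow, hdet, MvPolynomial.aeval_C]
    rfl
  choose c j hc hj hPj using hpt
  have hcoef : ∀ p i, π p (P.coeff i) = if i = j p then c p else 0 := by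
    intro p i
    rw [← Polynomial.coeff_map, hPj, Polynomial.coeff_C_mul_X_pow]
  have hs : ∀ p, π p (P.eval 1) = c p := by
    intro p
    rw [← Polynomial.eval_one_map, hPj]
    simp
  have hu : IsUnit (P.eval 1) := by
    by_contra h
    obtain ⟨J, hJ, hsJ⟩ := exists_max_ideal_of_mem_nonunits h
    exact hc ⟨J, hJ.isPrime⟩ ((hs _).symm.trans ((hker ⟨J, hJ.isPrime⟩ _).mpr hsJ))
  have hor : ∀ i, P.coeff i = 0 ∨ P.coeff i = P.eval 1 := by
    intro i
    have he : IsIdempotentElem (P.coeff i * ↑hu.unit⁻¹) := by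
      refine sub_eq_zero.mp (hzero _ fun p => ?_)
      have h1 : π p (↑hu.unit⁻¹ : A) * c p = 1 := by
        rw [← hs p, ← map_mul, IsUnit.val_inv_mul, map_one]
      rw [map_sub, map_mul, map_mul, hcoef]
      split_ifs with h
      · rw [mul_comm (c p), h1, mul_one, sub_self]
      · simp
    rcases hconn _ he with h | h
    · exact Or.inl ((Units.mul_left_eq_zero _).mp h)
    · refine Or.inr ?_
      have := congrArg (· * P.eval 1) h
      rwa [one_mul, mul_assoc, IsUnit.val_inv_mul, mul_one] at this
  obtain ⟨i₁, hi₁⟩ : ∃ i, P.coeff i = P.eval 1 := by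
    by_contra! h
    have hP0 : P = 0 := Polynomial.ext fun i => by simpa using (hor i).resolve_right (h i)
    exact hu.ne_zero (by simp [hP0])
  refine ⟨hu.unit, i₁, ?_⟩
  have hji : ∀ p, j p = i₁ := by
    intro p
    by_contra h
    have := hcoef p i₁
    rw [hi₁, hs, if_neg (Ne.symm h)] at this
    exact hc p this
  refine sub_eq_zero.mp (MvPolynomial.ext _ _ fun m => ?_)
  rw [MvPolynomial.coeff_zero]
  refine hzero _ fun p => ?_
  rw [← MvPolynomial.coeff_map, map_sub, map_mul, map_pow, MvPolynomial.map_C, map_det_X, hj, hji,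
    IsUnit.unit_spec, hs, sub_self, MvPolynomial.coeff_zero]

end Ring

end Groth.Agent.H19.DetUnits
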