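import Mathlib.RingTheory.Smooth.Basic
import Mathlib.RingTheory.Kaehler.Basic
import Mathlib.RingTheory.Filtration
import Mathlib.RingTheory.FiniteStability
import Mathlib.Algebra.CharP.Algebra

/-!
For a smooth algebra over a field of characteristic zero, the kernel of the multiplication map
`I ⊗ I → I²` of the diagonal ideal `I` contains only antisymmetric tensors.
-/

universe u v

open TensorProduct

namespace Groth.Agent.H19.DiagSym

variable (k : Type u) [Field k] (A : Type v) [CommRing A] [Algebra k A]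

/-- The diagonal ideal. -/
local notation "𝔡" => KaehlerDifferential.ideal k A

/-- Multiplication `I ⊗ I → I`. -/
noncomputable def mulI : 𝔡 ⊗[A ⊗[k] A] 𝔡 →ₗ[A ⊗[k] A] 𝔡 :=
  TensorProduct.lift
    (LinearMap.mk₂ (A ⊗[k] A) (fun g h : 𝔡 => (g : A ⊗[k] A) • h)
      (fun a b c => by simp [add_smul]) (fun a b c => by simp [mul_smul])
      (fun a b c => by simp [smul_add]) (fun a b c => by rw [smul_comm]))

@[simp] lemma mulI_tmul (g h : 𝔡) : mulI k A (g ⊗ₜ h) = (g : A ⊗[k] A) • h := rfl

/-- `1 ⊗ ∂` for a derivation `∂`. -/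
noncomputable def rightDer (δ : Derivation k A A) : A ⊗[k] A →ₗ[k] A ⊗[k] A :=
  LinearMap.lTensor A (δ : A →ₗ[k] A)

lemma rightDer_mul (δ : Derivation k A A) (x y : A ⊗[k] A) :
    rightDer k A δ (x * y) = x * rightDer k A δ y + y * rightDer k A δ x := by
  induction x with
  | zero => simp
  | add a b ha hb => rw [add_mul, map_add, ha, hb, map_add]; ring
  | tmul a b =>
    induction y with
    | zero => simp
    | add c e hc he => rw [mul_add, map_add, hc, he, map_add]; ring
    | tmul c e =>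
      simp [rightDer, Algebra.TensorProduct.tmul_mul_tmul, mul_comm c a, ← tmul_add]

lemma lmul'_rightDer (δ : Derivation k A A) (x : A ⊗[k] A) :
    Algebra.TensorProduct.lmul' k (S := A) (rightDer k A δ x) =
      δ.liftKaehlerDifferential ((KaehlerDifferential.D k A).tensorProductTo x) := by
  induction x with
  | zero => simp
  | add a b ha hb => simp [ha, hb]
  | tmul a b => simp [rightDer, Derivation.tensorProductTo_tmul]

variable [CharZero k] [Algebra.Smooth k A]

/-- If `t ∈ I ⊗ I` multiplies to zero then `t` is antisymmetric. -/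
theorem add_comm_eq_zero_of_mulI_eq_zero (t₀ : 𝔡 ⊗[A ⊗[k] A] 𝔡) (h₀ : mulI k A t₀ = 0) :
    t₀ + TensorProduct.comm (A ⊗[k] A) 𝔡 𝔡 t₀ = 0 := by
  obtain ⟨n, g, hg⟩ := Module.Finite.exists_fin' A Ω[A⁄k]
  obtain ⟨f, hf⟩ := Module.projective_lifting_property g LinearMap.id hg
  choose w hw using fun l : Fin n =>
    KaehlerDifferential.fromIdeal_surjective k A (g (Pi.single l 1))
  let δ : Fin n → Derivation k A A := fun l =>
    (LinearMap.compDer ((LinearMap.proj l).comp f)) (KaehlerDifferential.D k A)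
  let θ := (KaehlerDifferential.D k A).tensorProductTo
  let π := Algebra.TensorProduct.lmul' k (S := A)
  have hδ : ∀ l x, π (rightDer k A (δ l) x) = f (θ x) l := by
    intro l x
    rw [lmul'_rightDer]
    have : (δ l).liftKaehlerDifferential = (LinearMap.proj l).comp f := by
      apply Derivation.liftKaehlerDifferential_unique
      ext a
      simp [δ]
    rw [this]; rfl
  have hθI : ∀ z : 𝔡, θ (z : A ⊗[k] A) = KaehlerDifferential.fromIdeal k A z := by
    intro z
    have := Derivation.liftKaehlerDifferential_apply (KaehlerDifferential.D k A) z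
    rw [Derivation.liftKaehlerDifferential_D] at this
    exact this.symm
  let E : A ⊗[k] A → A ⊗[k] A := fun z => ∑ l, rightDer k A (δ l) z * (w l : A ⊗[k] A)
  have hEmem : ∀ z, E z ∈ 𝔡 := fun z =>
    Ideal.sum_mem _ fun l _ => Ideal.mul_mem_left _ _ (w l).2
  have hEadd : ∀ a b, E (a + b) = E a + E b := fun a b => by
    simp only [E, map_add, add_mul, Finset.sum_add_distrib]
  have hEmul : ∀ a b, E (a * b) = a * E b + b * E a := fun a b => by
    simp only [E, rightDer_mul, Finset.mul_sum, ← Finset.sum_add_distrib, add_mul, mul_assoc]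
  have hE1 : ∀ z ∈ 𝔡, E z - z ∈ (𝔡 : Ideal _) ^ 2 := by
    intro z hz
    have hθE : θ (E z) = θ z := by
      have e1 : ∀ l, θ (rightDer k A (δ l) z * (w l : A ⊗[k] A)) =
          f (θ z) l • g (Pi.single l 1) := by
        intro l
        rw [Derivation.tensorProductTo_mul, show Algebra.TensorProduct.lmul' k (S := A)
          ((w l : A ⊗[k] A)) = 0 from (w l).2, zero_smul, add_zero]
        change π _ • θ _ = _
        rw [hδ, hθI, hw]
      calc θ (E z) = ∑ l, f (θ z) l • g (Pi.single l 1) := by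
            simp only [E, map_sum, e1]
        _ = g (∑ l, f (θ z) l • Pi.single l 1) := by simp [map_sum, map_smul]
        _ = g (f (θ z)) := by rw [← pi_eq_sum_univ' (f (θ z))]
        _ = θ z := LinearMap.congr_fun hf _
    have h2 := hθI ⟨E z - z, sub_mem (hEmem z) hz⟩
    rw [map_sub, hθE, sub_self] at h2
    exact (Ideal.toCotangent_eq_zero (𝔡) ⟨E z - z, sub_mem (hEmem z) hz⟩).mp h2.symm
  have hEpow : ∀ m : ℕ, ∀ z ∈ (𝔡 : Ideal _) ^ m, E z - m * z ∈ (𝔡 : Ideal _) ^ (m + 1) := by
    intro m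
    induction m with
    | zero => intro z _; simpa using hEmem z
    | succ m ih =>
      intro z hz
      rw [pow_succ] at hz
      refine Submodule.mul_induction_on hz ?_ ?_
      · intro a ha b hb
        have e : E (a * b) - ((m + 1 : ℕ) : A ⊗[k] A) * (a * b) =
            a * (E b - b) + (E a - m * a) * b := by
          rw [hEmul]; push_cast; ring
        rw [e]
        refine add_mem ?_ ?_
        · rw [pow_add _ m 2]; exact Ideal.mul_mem_mul ha (hE1 b hb)
        · rw [pow_succ _ (m + 1)]; exact Ideal.mul_mem_mul (ih a ha) hb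
      · intro a b ha hb
        rw [hEadd, mul_add, add_sub_add_comm]
        exact add_mem ha hb
  let N : ℕ → Submodule (A ⊗[k] A) (𝔡 ⊗[A ⊗[k] A] 𝔡) := fun m => (𝔡 : Ideal _) ^ m • ⊤
  have hN : ∀ m (e x : 𝔡), (e : A ⊗[k] A) ∈ (𝔡 : Ideal _) ^ (m + 1) → e ⊗ₜ x ∈ N m := by
    intro m e x he
    obtain ⟨z, hz⟩ := e
    suffices H : ∀ z ∈ (𝔡 : Ideal _) ^ (m + 1), ∃ hz : z ∈ 𝔡,
        (⟨z, hz⟩ : 𝔡) ⊗ₜ[A ⊗[k] A] x ∈ N m from (H z he).2
    intro z hz
    rw [pow_succ] at hz
    refine Submodule.mul_induction_on hz ?_ ?_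
    · intro a ha b hb
      refine ⟨Ideal.mul_mem_left _ a hb, ?_⟩
      have e : (⟨a * b, Ideal.mul_mem_left _ a hb⟩ : 𝔡) = a • (⟨b, hb⟩ : 𝔡) := rfl
      rw [e, ← smul_tmul']
      exact Submodule.smul_mem_smul ha Submodule.mem_top
    · rintro a b ⟨ha, ha'⟩ ⟨hb, hb'⟩
      refine ⟨add_mem ha hb, ?_⟩
      have e : (⟨a + b, add_mem ha hb⟩ : 𝔡) = ⟨a, ha⟩ + ⟨b, hb⟩ := rfl
      rw [e, add_tmul]
      exact add_mem ha' hb'
  let E' : A ⊗[k] A → 𝔡 := fun z => ⟨E z, hEmem z⟩
  have hDI : ∀ l (g h : 𝔡), rightDer k A (δ l) ((g : A ⊗[k] A) * h) ∈ 𝔡 := by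
    intro l g h
    rw [rightDer_mul]
    exact add_mem (Ideal.mul_mem_right _ _ g.2) (Ideal.mul_mem_right _ _ h.2)
  have hDI' : ∀ l t, rightDer k A (δ l) (mulI k A t : A ⊗[k] A) ∈ 𝔡 := by
    intro l t
    induction t with
    | zero => simp
    | add a b ha hb => simpa using add_mem ha hb
    | tmul g h => simpa using hDI l g h
  let Γ : 𝔡 ⊗[A ⊗[k] A] 𝔡 → 𝔡 ⊗[A ⊗[k] A] 𝔡 := fun t =>
    ∑ l, w l ⊗ₜ (⟨rightDer k A (δ l) (mulI k A t : A ⊗[k] A), hDI' l t⟩ : 𝔡)
  have hΓadd : ∀ a b, Γ (a + b) = Γ a + Γ b := by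
    intro a b
    simp only [Γ, ← Finset.sum_add_distrib, ← tmul_add]
    exact Finset.sum_congr rfl fun l _ => by congr 1; ext; simp
  have hΓtmul : ∀ g h : 𝔡, Γ (g ⊗ₜ h) =
      E' (h : A ⊗[k] A) ⊗ₜ g + E' (g : A ⊗[k] A) ⊗ₜ h := by
    intro g h
    have e : ∀ z : A ⊗[k] A, E' z = ∑ l, rightDer k A (δ l) z • w l := by
      intro z; ext; simp [E', E]
    rw [e, e, sum_tmul, sum_tmul, ← Finset.sum_add_distrib]
    refine Finset.sum_congr rfl fun l _ => ?_
    rw [smul_tmul, smul_tmul, ← tmul_add]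
    congr 1
    ext
    simp [rightDer_mul, mul_comm]
  let τ := TensorProduct.comm (A ⊗[k] A) 𝔡 𝔡
  have hΓ : ∀ m, ∀ t ∈ N m, Γ t - τ t - ((m : A ⊗[k] A) + 1) • t ∈ N (m + 1) := by
    intro m t ht
    refine Submodule.smul_induction_on ht ?_ ?_
    · intro a ha x hx
      clear hx
      induction x with
      | zero =>
        have : Γ 0 = 0 := by
          simp only [Γ]
          refine Finset.sum_eq_zero fun l _ => ?_
          have h0 : (⟨rightDer k A (δ l) (mulI k A 0 : A ⊗[k] A), hDI' l 0⟩ : 𝔡) = 0 := by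
            ext; simp
          rw [h0, tmul_zero]
        simp [this]
      | add y z hy hz =>
        rw [smul_add, hΓadd, map_add, smul_add]
        convert add_mem hy hz using 1
        abel
      | tmul g h =>
        rw [smul_tmul', hΓtmul]
        have hg : ((a • g : 𝔡) : A ⊗[k] A) ∈ (𝔡 : Ideal _) ^ (m + 1) := by
          rw [pow_succ]; exact Ideal.mul_mem_mul ha g.2
        have h1 : (E' (h : A ⊗[k] A) - h) ⊗ₜ (a • g) ∈ N (m + 1) := by
          have := hN 1 (E' (h : A ⊗[k] A) - h) g (by simpa [E'] using hE1 _ h.2)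
          have hmem := Submodule.smul_mem_smul ha this
          rw [← tmul_smul, ← smul_assoc, smul_eq_mul, ← pow_add] at hmem
          exact hmem
        have h2 : (E' ((a • g : 𝔡) : A ⊗[k] A) - ((m : A ⊗[k] A) + 1) • (a • g)) ⊗ₜ h ∈
            N (m + 1) := by
          apply hN
          have := hEpow (m + 1) _ hg
          simpa [E', add_smul, add_mul] using this
        convert add_mem h1 h2 using 1
        simp only [τ, TensorProduct.comm_tmul, sub_tmul, smul_tmul']
        abel
    · intro a b ha hb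
      rw [hΓadd, map_add, smul_add]
      convert add_mem ha hb using 1
      abel
  set t := t₀ + τ t₀ with ht
  have htτ : τ t = t := by
    have : ∀ s, τ (τ s) = s := by
      intro s
      induction s using TensorProduct.induction_on with
      | zero => simp
      | add a b ha hb => rw [map_add, map_add, ha, hb]
      | tmul g h => simp [τ]
    rw [ht, map_add, this, add_comm]
  have hmτ : ∀ s, mulI k A (τ s) = mulI k A s := by
    intro s
    induction s with
    | zero => simp
    | add a b ha hb => simp [ha, hb]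
    | tmul g h => ext; simp [τ, mul_comm]
  have hμ : mulI k A t = 0 := by
    rw [ht, map_add, hmτ, h₀, add_zero]
  have hΓ0 : Γ t = 0 := by
    simp only [Γ]
    refine Finset.sum_eq_zero fun l _ => ?_
    have : (⟨rightDer k A (δ l) (mulI k A t : A ⊗[k] A), hDI' l t⟩ : 𝔡) = 0 := by
      ext; simp [hμ]
    rw [this, tmul_zero]
  have hall : ∀ m, t ∈ N m := by
    intro m
    induction m with
    | zero => simp [N]
    | succ m ih =>
      have h := hΓ m t ih
      rw [hΓ0, htτ] at h
      replace h : ((1 : A ⊗[k] A) + ((m : A ⊗[k] A) + 1)) • t ∈ N (m + 1) := by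
        have h2 := (N (m + 1)).smul_mem (-1 : A ⊗[k] A) h
        have hy : ((1 : A ⊗[k] A) + ((m : A ⊗[k] A) + 1)) • t +
            (0 - t - ((m : A ⊗[k] A) + 1) • t) = 0 := by
          rw [add_smul, one_smul]; abel
        have hx : ∀ X : 𝔡 ⊗[A ⊗[k] A] 𝔡, X + (-1 : A ⊗[k] A) • X = 0 := fun X => by
          nth_rw 1 [← one_smul (A ⊗[k] A) X]
          rw [← add_smul, add_neg_cancel, zero_smul]
        convert h2 using 1
        calc _ = _ + ((0 - t - ((m : A ⊗[k] A) + 1) • t) +
              (-1 : A ⊗[k] A) • (0 - t - ((m : A ⊗[k] A) + 1) • t)) := by rw [hx, add_zero]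
          _ = _ := by rw [← add_assoc, hy, zero_add]
      have hu : IsUnit ((1 : A ⊗[k] A) + ((m : A ⊗[k] A) + 1)) := by
        have : ((1 : A ⊗[k] A) + ((m : A ⊗[k] A) + 1)) =
            algebraMap k (A ⊗[k] A) ((m : k) + 2) := by
          simp [map_add, map_ofNat]; ring
        rw [this]
        refine IsUnit.map _ (Ne.isUnit ?_)
        exact_mod_cast (Nat.succ_ne_zero (m + 1))
      exact (Submodule.smul_mem_iff_of_isUnit (N (m + 1)) hu).mp h
  have : Algebra.FiniteType A (A ⊗[k] A) := inferInstance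
  have : Algebra.FiniteType k (A ⊗[k] A) := Algebra.FiniteType.trans (S := A) inferInstance this
  have : IsNoetherianRing (A ⊗[k] A) := Algebra.FiniteType.isNoetherianRing k _
  have hinf : t ∈ (⨅ m : ℕ, (𝔡 : Ideal _) ^ m • ⊤ :
      Submodule (A ⊗[k] A) (𝔡 ⊗[A ⊗[k] A] 𝔡)) :=
    Submodule.mem_iInf _ |>.mpr hall
  obtain ⟨r, hr⟩ := (Ideal.mem_iInf_smul_pow_eq_bot_iff _ t).mp hinf
  have key : ∀ s : 𝔡 ⊗[A ⊗[k] A] 𝔡, (r : A ⊗[k] A) • s = r ⊗ₜ mulI k A s := by
    intro s
    induction s with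
    | zero => simp
    | add a b ha hb => rw [smul_add, ha, hb, map_add, tmul_add]
    | tmul g h =>
      rw [mulI_tmul, tmul_smul, smul_tmul', smul_tmul']
      congr 1
      ext; simp [mul_comm]
  rw [← hr, key, hμ, tmul_zero]

end Groth.Agent.H19.DiagSym
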