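import Groth.Agent.H19.DetUnits
import Groth.Agent.S13785
import Mathlib.RingTheory.Localization.Away.Basic

/-!
Units of the coordinate ring `A[X, 1/det]` of `GL n`.
-/

universe u

open Matrix

namespace Groth.Agent.H19.GLUnits

variable (A : Type u) [CommRing A] (n : ℕ)

/-- The generic determinant. -/
noncomputable abbrev D : MvPolynomial (Fin n × Fin n) A := (mvPolynomialX (Fin n) (Fin n) A).det

/-- The coordinate ring of `GL n`. -/
abbrev S : Type u := Localization.Away (D A n)

/-- The map `(a, e) ↦ a * det ^ e`. -/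
noncomputable def Φ (p : Aˣ × ℤ) : (S A n)ˣ :=
  Units.map (algebraMap A (S A n)).toMonoidHom p.1 *
    (IsLocalization.Away.algebraMap_isUnit (S := S A n) (D A n)).unit ^ p.2

variable {A n}

lemma algebraMap_injective : Function.Injective (algebraMap (MvPolynomial (Fin n × Fin n) A) (S A n)) :=
  IsLocalization.injective (S A n)
    (Submonoid.powers_le.mpr (S13785.result A n))

lemma algebraMap_C (a : A) :
    algebraMap (MvPolynomial (Fin n × Fin n) A) (S A n) (MvPolynomial.C a) = algebraMap A (S A n) a := by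
  rw [IsScalarTower.algebraMap_apply A (MvPolynomial (Fin n × Fin n) A) (S A n)]
  rfl

/-- `Φ (a, l - k)` times `det ^ k` is `a * det ^ l`. -/
lemma Φ_mul_pow (a : Aˣ) (e : ℤ) (k l : ℕ) (h : e + k = l) :
    (Φ A n (a, e) : S A n) * algebraMap _ _ (D A n ^ k) =
      algebraMap _ _ (MvPolynomial.C (a : A) * D A n ^ l) := by
  set δ := (IsLocalization.Away.algebraMap_isUnit (S := S A n) (D A n)).unit with hδ
  have hδk : ∀ m : ℕ, ((δ ^ (m : ℤ) : (S A n)ˣ) : S A n) = algebraMap _ _ (D A n ^ m) := by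
    intro m
    rw [zpow_natCast, Units.val_pow_eq_pow_val, IsUnit.unit_spec, map_pow]
  rw [map_mul, ← hδk, ← hδk, algebraMap_C, Φ, ← hδ, Units.val_mul, mul_assoc, ← Units.val_mul,
    ← zpow_add, h]
  rfl

lemma eval_zero_D (hn : 0 < n) : MvPolynomial.eval (fun _ => (0 : A)) (D A n) = 0 := by
  haveI : Nonempty (Fin n) := ⟨⟨0, hn⟩⟩
  rw [RingHom.map_det, show (MvPolynomial.eval fun _ => (0 : A)).mapMatrix (mvPolynomialX (Fin n) (Fin n) A) = 0 by
    ext i j; simp [mvPolynomialX]]
  exact det_zero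

theorem injective [Nontrivial A] (hn : 0 < n) : Function.Injective (Φ A n) := by
  rintro ⟨a, e⟩ ⟨b, e'⟩ h
  wlog he : e ≤ e' generalizing a b e e'
  · exact (this b e' a e h.symm (le_of_not_ge he)).symm
  obtain ⟨k, hk⟩ : ∃ k : ℕ, e + k = e' := ⟨(e' - e).toNat, by omega⟩
  obtain ⟨s, l, hs⟩ : ∃ s l : ℕ, e + s = l := ⟨(-e).toNat, e.toNat, by omega⟩
  have h1 := Φ_mul_pow (n := n) a e s l hs
  have h2 := Φ_mul_pow (n := n) b e' s (l + k) (by push_cast; omega)
  rw [h] at h1
  have h3 := algebraMap_injective (h1.symm.trans h2)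
  rw [pow_add, ← mul_assoc, mul_comm (MvPolynomial.C (b : A)) _, mul_assoc, mul_comm (D A n ^ l)] at h3
  have h4 : MvPolynomial.C (a : A) = MvPolynomial.C (b : A) * D A n ^ k :=
    (mul_cancel_right_mem_nonZeroDivisors (pow_mem (S13785.result A n) l)).mp h3
  have h5 := congrArg (MvPolynomial.eval fun _ => (0 : A)) h4
  simp only [map_mul, map_pow, MvPolynomial.eval_C, eval_zero_D hn] at h5
  rcases Nat.eq_zero_or_pos k with rfl | hk0
  · have : (a : A) = b := by simpa using h5
    rw [Units.ext this, show e = e' by simpa using hk]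
  · rw [zero_pow hk0.ne', mul_zero] at h5
    exact absurd h5 a.ne_zero

theorem isReduced_of_surjective [Nontrivial A] (hn : 0 < n) (hs : Function.Surjective (Φ A n)) :
    IsReduced A := by
  refine ⟨fun x hx => ?_⟩
  let i₀ : Fin n × Fin n := (⟨0, hn⟩, ⟨0, hn⟩)
  set v : MvPolynomial (Fin n × Fin n) A := 1 + MvPolynomial.C x * MvPolynomial.X i₀ with hv
  have hu : IsUnit v := IsNilpotent.isUnit_one_add
    ((Commute.all _ _).isNilpotent_mul_right (hx.map MvPolynomial.C))
  obtain ⟨⟨a, e⟩, ha⟩ := hs (hu.map (algebraMap _ (S A n))).unit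
  obtain ⟨k, l, hkl, hd⟩ : ∃ k l : ℕ, e + k = l ∧ (k = 0 ∨ l = 0) :=
    ⟨(-e).toNat, e.toNat, by omega, by omega⟩
  have h1 := Φ_mul_pow (n := n) a e k l hkl
  rw [ha, IsUnit.unit_spec, ← map_mul] at h1
  have h2 := algebraMap_injective h1
  have h3 := congrArg (MvPolynomial.eval fun _ => (0 : A)) h2
  simp only [hv, map_mul, map_pow, map_add, map_one, MvPolynomial.eval_C, MvPolynomial.eval_X,
    eval_zero_D hn, mul_zero, add_zero, one_mul] at h3
  obtain ⟨rfl, rfl⟩ : k = 0 ∧ l = 0 := by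
    rcases hd with rfl | rfl
    · refine ⟨rfl, ?_⟩
      by_contra hl
      rw [zero_pow hl, mul_zero, pow_zero] at h3
      exact one_ne_zero h3
    · refine ⟨?_, rfl⟩
      by_contra hk
      rw [zero_pow hk, pow_zero, mul_one] at h3
      exact a.ne_zero h3.symm
  have h4 := congrArg (MvPolynomial.coeff (Finsupp.single i₀ 1)) h2
  classical
  simpa [hv, MvPolynomial.coeff_one, MvPolynomial.coeff_C, MvPolynomial.coeff_C_mul,
    Finsupp.single_eq_zero, eq_comm (a := (0 : Fin n × Fin n →₀ ℕ))] using h4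

theorem surjective [IsReduced A] [Nontrivial A]
    (hconn : ∀ e : A, IsIdempotentElem e → e = 0 ∨ e = 1) (hn : 0 < n) :
    Function.Surjective (Φ A n) := by
  intro u
  obtain ⟨N, f, hf⟩ := IsLocalization.Away.surj (D A n) (u : S A n)
  obtain ⟨M, g, hg⟩ := IsLocalization.Away.surj (D A n) ((u⁻¹ : (S A n)ˣ) : S A n)
  have hfg : f * g = D A n ^ (N + M) := by
    apply algebraMap_injective
    rw [map_mul, ← hf, ← hg, mul_mul_mul_comm, Units.mul_inv, one_mul, map_pow, pow_add]
  obtain ⟨c, j, hj⟩ := DetUnits.exists_eq_C_unit_mul_det_pow hconn hn f g _ hfg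
  refine ⟨(c, (j : ℤ) - N), Units.ext ?_⟩
  have h1 := Φ_mul_pow (n := n) c ((j : ℤ) - N) N j (by ring)
  rw [← hj, ← hf, map_pow] at h1
  exact ((IsLocalization.Away.algebraMap_isUnit (S := S A n) (D A n)).pow N).mul_left_inj.mp h1

end Groth.Agent.H19.GLUnits
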