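import Mathlib.RingTheory.Kaehler.Basic

/-!
The kernel of `A ⊗ A → Ω[A⁄k]`, `a ⊗ b ↦ a • d b`, is spanned by the Leibniz relations.
-/

universe u v w

open TensorProduct

namespace Groth.Agent.H19.KerD

variable {k : Type u} [CommRing k] {A : Type v} [CommRing A] [Algebra k A]

/-- The `A`-submodule of `A ⊗ A` of elements all of whose left multiples are killed by `F`. -/
def killed {V : Type w} [AddCommGroup V] [Module k V] (F : A ⊗[k] A →ₗ[k] V) :
    Submodule A (A ⊗[k] A) where
  carrier := {n | ∀ a : A, F (a • n) = 0}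
  zero_mem' := by intro a; simp
  add_mem' := by intro x y hx hy a; simp [hx a, hy a]
  smul_mem' := by intro c x hx a; rw [smul_smul]; exact hx _

/-- A linear map killing the Leibniz relations kills the kernel of `a ⊗ b ↦ a • d b`. -/
theorem eq_zero_of_tensorProductTo_eq_zero {V : Type w} [AddCommGroup V] [Module k V]
    (F : A ⊗[k] A →ₗ[k] V)
    (hF : ∀ a b c : A, F (a ⊗ₜ[k] (b * c)) = F ((a * b) ⊗ₜ[k] c) + F ((a * c) ⊗ₜ[k] b))
    (y : A ⊗[k] A) (hy : (KaehlerDifferential.D k A).tensorProductTo y = 0) : F y = 0 := by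
  let N := killed F
  let d : A →ₗ[k] (A ⊗[k] A) ⧸ N :=
    (N.mkQ.restrictScalars k).comp (TensorProduct.mk k A A 1)
  have hd : ∀ b c : A, d (b * c) = b • d c + c • d b := by
    intro b c
    simp only [d, LinearMap.comp_apply, LinearMap.restrictScalars_apply, TensorProduct.mk_apply,
      Submodule.mkQ_apply, ← Submodule.Quotient.mk_smul, ← Submodule.Quotient.mk_add,
      Submodule.Quotient.eq]
    intro a
    simp only [smul_sub, smul_add, TensorProduct.smul_tmul', smul_eq_mul, mul_one, map_sub,
      map_add, hF, sub_self]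
  let der : Derivation k A ((A ⊗[k] A) ⧸ N) := Derivation.mk' d hd
  have key : ∀ z : A ⊗[k] A,
      der.liftKaehlerDifferential ((KaehlerDifferential.D k A).tensorProductTo z) = N.mkQ z := by
    intro z
    induction z with
    | zero => simp
    | add x y hx hy => rw [map_add, map_add, map_add, hx, hy]
    | tmul a b =>
      rw [Derivation.tensorProductTo_tmul, map_smul, Derivation.liftKaehlerDifferential_comp_D]
      show a • N.mkQ ((1 : A) ⊗ₜ[k] b) = N.mkQ (a ⊗ₜ[k] b)
      rw [← map_smul, TensorProduct.smul_tmul', smul_eq_mul, mul_one]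
  have h0 : y ∈ N := by
    have := key y
    rw [hy, map_zero] at this
    exact (Submodule.Quotient.mk_eq_zero N).mp this.symm
  have := h0 1
  rwa [one_smul] at this

end Groth.Agent.H19.KerD
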