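import Mathlib.Algebra.Polynomial.Laurent
import Mathlib.RingTheory.Kaehler.Basic

/-!
The Euler derivation `T d/dT` of Laurent polynomials and the differentials of `k[T, T⁻¹]`.
-/

universe u

open LaurentPolynomial

namespace Groth.Agent.H19.Laurent

variable (k : Type u) [CommRing k]

/-- Coefficientwise multiplication by the exponent. -/
noncomputable def eulerLin : LaurentPolynomial k →ₗ[k] LaurentPolynomial k :=
  Finsupp.linearCombination k (fun n : ℤ => (n : k) • (T n : LaurentPolynomial k)) ∘ₗ
    (AddMonoidAlgebra.coeffLinearEquiv k).toLinearMap

lemma eulerLin_single (n : ℤ) (c : k) :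
    eulerLin k (AddMonoidAlgebra.single n c) = AddMonoidAlgebra.single n ((n : k) * c) := by
  simp [eulerLin, AddMonoidAlgebra.coeffLinearEquiv, show (T n : LaurentPolynomial k) = AddMonoidAlgebra.single n 1 from rfl, mul_comm, -single_eq_C_mul_T]

/-- The derivation `T d/dT`. -/
noncomputable def euler : Derivation k (LaurentPolynomial k) (LaurentPolynomial k) :=
  Derivation.mk' (eulerLin k) (fun f g => by
    induction f using AddMonoidAlgebra.induction_linear with
    | zero => simp
    | add a b ha hb => simp only [add_mul, map_add, ha, hb, smul_eq_mul]; ring
    | single m a =>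
      induction g using AddMonoidAlgebra.induction_linear with
      | zero => simp
      | add c e hc he => simp only [mul_add, map_add, hc, he, smul_eq_mul]; ring
      | single n b =>
        simp only [smul_eq_mul, AddMonoidAlgebra.single_mul_single, eulerLin_single, add_comm n m,
          ← AddMonoidAlgebra.single_add]
        congr 1
        push_cast; ring)

lemma euler_single (n : ℤ) (c : k) :
    euler k (AddMonoidAlgebra.single n c) = AddMonoidAlgebra.single n ((n : k) * c) :=
  eulerLin_single k n c

lemma coeff_euler (f : LaurentPolynomial k) (n : ℤ) :
    (euler k f).coeff n = (n : k) * f.coeff n := by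
  classical
  induction f using AddMonoidAlgebra.induction_linear with
  | zero => simp
  | add a b ha hb => simp [ha, hb, mul_add]
  | single m a =>
    rw [euler_single, AddMonoidAlgebra.coeff_single, AddMonoidAlgebra.coeff_single,
      Finsupp.single_apply, Finsupp.single_apply]
    split_ifs with h
    · rw [h]
    · simp

/-- The logarithmic differential of `T`. -/
noncomputable def dlogT : Ω[LaurentPolynomial k⁄k] :=
  (T (-1) : LaurentPolynomial k) • KaehlerDifferential.D k (LaurentPolynomial k) (T 1)

lemma D_eq_euler_smul (f : LaurentPolynomial k) :
    KaehlerDifferential.D k (LaurentPolynomial k) f = euler k f • dlogT k := by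
  set D := KaehlerDifferential.D k (LaurentPolynomial k)
  let h : ℤ →+ Ω[LaurentPolynomial k⁄k] :=
    { toFun := fun n => (T (-n) : LaurentPolynomial k) • D (T n)
      map_zero' := by simp
      map_add' := fun m n => by
        rw [T_add m n, Derivation.leibniz, smul_add, smul_smul, smul_smul, ← T_add, ← T_add]
        rw [show -(m + n) + m = -n by ring, show -(m + n) + n = -m by ring, add_comm] }
  have hT : ∀ n : ℤ, D (T n) = ((n : k) • (T n : LaurentPolynomial k)) • dlogT k := by
    intro n
    have h1 : h n = n • h 1 := by
      rw [← map_zsmul]
      congr 1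
      simp
    have h2 : (T n : LaurentPolynomial k) • h n = D (T n) := by
      show (T n : LaurentPolynomial k) • (T (-n) : LaurentPolynomial k) • D (T n) = _
      rw [smul_smul, ← T_add, add_neg_cancel, T_zero, one_smul]
    rw [← h2, h1, show h 1 = dlogT k from rfl, ← Int.cast_smul_eq_zsmul k, smul_comm, smul_assoc]
  induction f using AddMonoidAlgebra.induction_linear with
  | zero => simp
  | add a b ha hb => simp [ha, hb, add_smul]
  | single m a =>
    have e : (AddMonoidAlgebra.single m a : LaurentPolynomial k) = a • (T m : LaurentPolynomial k) := by
      simp [show (T m : LaurentPolynomial k) = AddMonoidAlgebra.single m 1 from rfl, -single_eq_C_mul_T]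
    rw [euler_single, e, Derivation.map_smul, hT, ← smul_assoc]
    congr 1
    simp [show (T m : LaurentPolynomial k) = AddMonoidAlgebra.single m 1 from rfl, mul_comm, -single_eq_C_mul_T]

end Groth.Agent.H19.Laurent
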