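import Mathlib.RingTheory.Regular.RegularSequence
import Mathlib.RingTheory.MvPolynomial.Homogeneous
import Mathlib.RingTheory.Polynomial.Basic

/-!
A weakly regular sequence generates an ideal of linear type: the homogeneous polynomial relations
between its terms are generated by the linear ones.
-/

universe u

open MvPolynomial

namespace Groth.Agent.H19.LinearType

variable {A : Type u} [CommRing A]

/-- The ideal of linear relations `a i * X j - a j * X i`. -/
noncomputable def relIdeal {n : ℕ} (a : Fin n → A) : Ideal (MvPolynomial (Fin n) A) :=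
  Ideal.span {q : MvPolynomial (Fin n) A | ∃ i j : Fin n, q = C (a i) * X j - C (a j) * X i}

lemma relIdeal_le_map_C {n : ℕ} (a : Fin n → A) :
    relIdeal a ≤ Ideal.map C (Ideal.span (Set.range a)) := by
  rw [relIdeal, Ideal.span_le]
  rintro q ⟨i, j, rfl⟩
  exact sub_mem (Ideal.mul_mem_right _ _ (Ideal.mem_map_of_mem C (Ideal.subset_span ⟨i, rfl⟩)))
    (Ideal.mul_mem_right _ _ (Ideal.mem_map_of_mem C (Ideal.subset_span ⟨j, rfl⟩)))

lemma eval_mem_pow {σ : Type*} (v : σ → A) {p : MvPolynomial σ A} {d : ℕ} (hp : p.IsHomogeneous d)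
    {K : Ideal A} (hK : ∀ s, p.coeff s ∈ K) : eval v p ∈ K * Ideal.span (Set.range v) ^ d := by
  rw [eval_eq]
  refine Ideal.sum_mem _ fun s hs => Ideal.mul_mem_mul (hK s) ?_
  rw [hp.degree_eq_sum_deg_support hs, ← Finset.prod_pow_eq_pow_sum]
  exact Ideal.prod_mem_prod fun i _ =>
    Ideal.pow_mem_pow (Ideal.subset_span (Set.mem_range_self i)) _

lemma exists_eval_eq {σ : Type*} [Fintype σ] (v : σ → A) (d : ℕ) {z : A}
    (hz : z ∈ Ideal.span (Set.range v) ^ d) :
    ∃ p : MvPolynomial σ A, p.IsHomogeneous d ∧ eval v p = z := by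
  induction d generalizing z with
  | zero => exact ⟨C z, isHomogeneous_C _ z, eval_C z⟩
  | succ d ih =>
    rw [pow_succ] at hz
    refine Submodule.mul_induction_on hz ?_ ?_
    · intro b hb c hc
      obtain ⟨p, hp, rfl⟩ := ih hb
      obtain ⟨l, rfl⟩ := Ideal.mem_span_range_iff_exists_fun.mp hc
      refine ⟨p * ∑ i, C (l i) * X i, hp.mul (IsHomogeneous.sum _ _ _ fun i _ => ?_), by simp⟩
      exact (isHomogeneous_X _ i).C_mul _
    · rintro b c ⟨p, hp, rfl⟩ ⟨q, hq, rfl⟩
      exact ⟨p + q, hp.add hq, by simp⟩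

lemma exists_sum_X_mul {n d : ℕ} {q : MvPolynomial (Fin n) A} (hq : q.IsHomogeneous (d + 1)) :
    ∃ g : Fin n → MvPolynomial (Fin n) A, (∀ i, (g i).IsHomogeneous d) ∧ q = ∑ i, X i * g i := by
  classical
  have hmon : ∀ s : Fin n →₀ ℕ, s.degree = d + 1 → ∀ c : A,
      ∃ g : Fin n → MvPolynomial (Fin n) A,
        (∀ i, (g i).IsHomogeneous d) ∧ monomial s c = ∑ i, X i * g i := by
    intro s hs c
    obtain ⟨i, hi⟩ : ∃ i, s i ≠ 0 := by
      by_contra h
      push_neg at h
      rw [show s = 0 from Finsupp.ext h, map_zero] at hs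
      omega
    have hle : Finsupp.single i 1 ≤ s := by
      intro j
      rw [Finsupp.single_apply]
      split_ifs with h
      · subst h; omega
      · simp
    refine ⟨Pi.single i (monomial (s - Finsupp.single i 1) c), fun j => ?_, ?_⟩
    · rcases eq_or_ne j i with rfl | h
      · rw [Pi.single_eq_same]
        apply isHomogeneous_monomial
        have h := congrArg Finsupp.degree (tsub_add_cancel_of_le hle)
        rw [map_add, Finsupp.degree_single, hs] at h
        omega
      · rw [Pi.single_eq_of_ne h]; exact isHomogeneous_zero _ _ _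
    · rw [Finset.sum_eq_single i (fun j _ hj => by rw [Pi.single_eq_of_ne hj, mul_zero]) (by simp),
        Pi.single_eq_same, X, monomial_mul, one_mul, add_tsub_cancel_of_le hle]
  rw [← support_sum_monomial_coeff q]
  refine Finset.sum_induction _ (fun p => ∃ g : Fin n → MvPolynomial (Fin n) A,
    (∀ i, (g i).IsHomogeneous d) ∧ p = ∑ i, X i * g i) ?_ ?_ ?_
  · rintro p q ⟨g, hg, rfl⟩ ⟨h, hh, rfl⟩
    exact ⟨g + h, fun i => (hg i).add (hh i), by simp [mul_add, Finset.sum_add_distrib]⟩
  · exact ⟨0, fun i => isHomogeneous_zero _ _ _, by simp⟩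
  · exact fun s hs => hmon s (by rw [hq.degree_eq_sum_deg_support hs]; rfl) _

/-- Splitting off the last variable. -/
lemma exists_split {n d : ℕ} {f : MvPolynomial (Fin (n + 1)) A} (hf : f.IsHomogeneous (d + 1)) :
    ∃ (g : MvPolynomial (Fin n) A) (h : MvPolynomial (Fin (n + 1)) A),
      g.IsHomogeneous (d + 1) ∧ h.IsHomogeneous d ∧
        f = rename Fin.castSucc g + X (Fin.last n) * h := by
  obtain ⟨c, hc, rfl⟩ := exists_sum_X_mul hf
  clear hf
  -- descend on the degree
  induction d generalizing c with
  | zero =>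
    refine ⟨∑ i : Fin n, C ((c i.castSucc).coeff 0) * X i, c (Fin.last n),
      IsHomogeneous.sum _ _ _ fun i _ => (isHomogeneous_X _ i).C_mul _, hc _, ?_⟩
    rw [Fin.sum_univ_castSucc, map_sum]
    congr 1
    refine Finset.sum_congr rfl fun i _ => ?_
    rw [map_mul, rename_C, rename_X, mul_comm]
    congr 1
    exact (totalDegree_eq_zero_iff_eq_C).mp (Nat.le_zero.mp (hc _).totalDegree_le)
  | succ d ih =>
    have hsub : ∀ i, ∃ (g : MvPolynomial (Fin n) A) (h : MvPolynomial (Fin (n + 1)) A),
        g.IsHomogeneous (d + 1) ∧ h.IsHomogeneous d ∧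
          c i = rename Fin.castSucc g + X (Fin.last n) * h := by
      intro i
      obtain ⟨c', hc', e⟩ := exists_sum_X_mul (hc i)
      rw [e]
      exact ih c' hc'
    choose g h hg hh e using hsub
    refine ⟨∑ i : Fin n, X i * g i.castSucc,
      (∑ i : Fin n, X i.castSucc * h i.castSucc) + c (Fin.last n), ?_, ?_, ?_⟩
    · refine IsHomogeneous.sum _ _ _ fun i _ => ?_
      rw [add_comm (d + 1) 1]
      exact (isHomogeneous_X _ _).mul (hg _)
    · refine (IsHomogeneous.sum _ _ _ fun i _ => ?_).add (hc _)
      rw [add_comm d 1]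
      exact (isHomogeneous_X _ _).mul (hh _)
    · rw [Fin.sum_univ_castSucc, map_sum, mul_add, Finset.mul_sum, ← add_assoc,
        ← Finset.sum_add_distrib]
      congr 1
      refine Finset.sum_congr rfl fun i _ => ?_
      rw [e i.castSucc, map_mul, rename_X]; ring

/-- Homogeneous relations among the terms of a weakly regular sequence are linear ones. -/
theorem mem_relIdeal_of_eval_eq_zero {n : ℕ} (a : Fin n → A)
    (ha : RingTheory.Sequence.IsWeaklyRegular A (List.ofFn a)) {d : ℕ}
    {f : MvPolynomial (Fin n) A} (hf : f.IsHomogeneous d) (h0 : eval a f = 0) :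
    f ∈ relIdeal a := by
  induction n generalizing d with
  | zero =>
    obtain ⟨c, rfl⟩ : ∃ c, f = C c := ⟨_, eq_C_of_isEmpty f⟩
    rw [eval_C] at h0
    simp [h0]
  | succ n ihn =>
    let a' : Fin n → A := fun i => a i.castSucc
    set r := a (Fin.last n)
    have hlist : List.ofFn a = List.ofFn a' ++ [r] := by
      rw [List.ofFn_succ', List.concat_eq_append]
    rw [hlist, RingTheory.Sequence.isWeaklyRegular_append_iff,
      RingTheory.Sequence.isWeaklyRegular_singleton_iff] at ha
    obtain ⟨ha', hr⟩ := ha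
    set I := Ideal.span (Set.range a')
    have hIlist : (Ideal.ofList (List.ofFn a') • (⊤ : Submodule A A)) = I := by
      rw [smul_eq_mul, Ideal.mul_top, Ideal.ofList]
      congr 1
      ext x
      simp [List.mem_ofFn]
    rw [hIlist, isSMulRegular_quotient_iff_mem_of_smul_mem] at hr
    have hnzd : ∀ e (z : A), r * z ∈ I ^ e → z ∈ I ^ e := by
      intro e
      induction e with
      | zero => simp
      | succ e ihe =>
        intro z hz
        obtain ⟨p, hp, rfl⟩ := exists_eval_eq a' e (ihe z (Ideal.pow_le_pow_right e.le_succ hz))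
        obtain ⟨q, hq, hqe⟩ := exists_eval_eq a' (e + 1) hz
        obtain ⟨c, hc, rfl⟩ := exists_sum_X_mul hq
        have hmem : C r * p - ∑ i, C (a' i) * c i ∈ relIdeal a' := by
          refine ihn a' ha' ((hp.C_mul r).sub (IsHomogeneous.sum _ _ _ fun i _ =>
            (hc i).C_mul _)) ?_
          simp only [map_sub, map_mul, eval_C, map_sum]
          rw [← hqe]
          simp
        have hcoef : ∀ s, p.coeff s ∈ I := by
          intro s
          refine hr _ ?_
          have h1 := mem_map_C_iff.mp (relIdeal_le_map_C a' hmem) s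
          rw [coeff_sub, coeff_C_mul, coeff_sum] at h1
          have h2 : ∑ i, (C (a' i) * c i).coeff s ∈ I := Ideal.sum_mem _ fun i _ => by
            rw [coeff_C_mul]; exact Ideal.mul_mem_right _ _ (Ideal.subset_span ⟨i, rfl⟩)
          simpa using add_mem h1 h2
        rw [pow_succ']
        exact eval_mem_pow a' hp hcoef
    have hren : ∀ p ∈ relIdeal a', rename Fin.castSucc p ∈ relIdeal a := by
      intro p hp
      have h1 := Ideal.mem_map_of_mem (rename (R := A) (Fin.castSucc (n := n))) hp
      refine (?_ : Ideal.map (rename (R := A) (Fin.castSucc (n := n))) (relIdeal a') ≤ _) h1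
      rw [relIdeal, Ideal.map_span, Ideal.span_le]
      rintro _ ⟨_, ⟨i, j, rfl⟩, rfl⟩
      exact Ideal.subset_span ⟨i.castSucc, j.castSucc, by simp [a']⟩
    have hev : ∀ g : MvPolynomial (Fin n) A, eval a (rename Fin.castSucc g) = eval a' g :=
      fun g => eval_rename _ a g
    induction d generalizing f with
    | zero =>
      obtain ⟨c, rfl⟩ : ∃ c, f = C c :=
        ⟨_, totalDegree_eq_zero_iff_eq_C.mp (Nat.le_zero.mp hf.totalDegree_le)⟩
      rw [eval_C] at h0
      simp [h0]
    | succ d ihd =>
      obtain ⟨g, h, hg, hh, rfl⟩ := exists_split hf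
      rw [map_add, map_mul, eval_X, hev] at h0
      have hgI : eval a' g ∈ I ^ (d + 1) := by
        simpa using eval_mem_pow a' hg (K := ⊤) (fun _ => trivial)
      have hhI : eval a h ∈ I ^ (d + 1) := hnzd _ _ (by
        rw [eq_neg_of_add_eq_zero_right h0]; exact neg_mem hgI)
      obtain ⟨g', hg', hge⟩ := exists_eval_eq a' (d + 1) hhI
      obtain ⟨c, hc, rfl⟩ := exists_sum_X_mul hg'
      set h' := ∑ i, C (a' i) * rename Fin.castSucc (c i) with hh'
      have hsame : eval a h' = eval a h := by
        rw [← hge]; simp [hh', hev]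
      have h1 : h - h' ∈ relIdeal a := by
        refine ihd (hh.sub (IsHomogeneous.sum _ _ _ fun i _ => ?_)) (by rw [map_sub, hsame, sub_self])
        exact ((hc i).rename_isHomogeneous).C_mul _
      have h2 : g + C r * ∑ i, X i * c i ∈ relIdeal a' := by
        refine ihn a' ha' (d := d + 1) (hg.add ((IsHomogeneous.sum _ _ _ fun i _ => ?_).C_mul r)) ?_
        · rw [add_comm d 1]; exact (isHomogeneous_X _ i).mul (hc i)
        · rw [map_add, map_mul, eval_C, hge]; exact h0
      have h3 : X (Fin.last n) * h' - C r * rename Fin.castSucc (∑ i, X i * c i) ∈ relIdeal a := by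
        simp only [hh', map_sum, map_mul, rename_X, Finset.mul_sum, ← Finset.sum_sub_distrib]
        refine Ideal.sum_mem _ fun i _ => ?_
        have : X (Fin.last n) * (C (a' i) * rename Fin.castSucc (c i)) -
            C r * (X i.castSucc * rename Fin.castSucc (c i)) =
            rename Fin.castSucc (c i) *
              (C (a i.castSucc) * X (Fin.last n) - C r * X i.castSucc) := by
          simp only [a']; ring
        rw [this]
        exact Ideal.mul_mem_left _ _ (Ideal.subset_span ⟨i.castSucc, Fin.last n, rfl⟩)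
      have := add_mem (add_mem (Ideal.mul_mem_left _ (X (Fin.last n)) h1) h3) (hren _ h2)
      convert this using 1
      rw [map_add, map_mul, rename_C]
      ring

end Groth.Agent.H19.LinearType
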