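import Mathlib.RingTheory.Kaehler.Basic
import Mathlib.Algebra.MvPolynomial.PDeriv
import Mathlib.RingTheory.MvPolynomial.Ideal
import Groth.Agent.H19.KerD

/-!
The coordinate ring `k[X, Y] ⧸ (XY)` of the node and its Kähler differentials.
-/

universe u

open MvPolynomial

namespace Groth.Agent.H19.Node

variable (k : Type u) [CommRing k]

/-- The ideal `(XY)`. -/
noncomputable abbrev nodeIdeal : Ideal (MvPolynomial (Fin 2) k) := Ideal.span {X 0 * X 1}

lemma coeff_X_mul_pderiv (i : Fin 2) (p : MvPolynomial (Fin 2) k) (m : Fin 2 →₀ ℕ) :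
    coeff m (X i * pderiv i p) = (m i : k) * coeff m p := by
  classical
  induction p using MvPolynomial.induction_on' with
  | monomial n a =>
    rw [X, pderiv_monomial, monomial_mul, one_mul, coeff_monomial, coeff_monomial]
    rcases eq_or_ne (n i) 0 with h | h
    · split_ifs <;> simp_all
    · have e : Finsupp.single i 1 + (n - Finsupp.single i 1) = n :=
        add_tsub_cancel_of_le (by rw [Finsupp.single_le_iff]; omega)
      rw [e]
      split_ifs with hm
      · rw [hm, mul_comm]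
      · simp
  | add p q hp hq => simp only [map_add, mul_add, coeff_add, hp, hq]

lemma pderiv_mem {i : Fin 2} {p : MvPolynomial (Fin 2) k} (h : p ∈ nodeIdeal k) :
    X i * pderiv i p ∈ nodeIdeal k := by
  obtain ⟨q, rfl⟩ := Ideal.mem_span_singleton'.mp h
  fin_cases i
  · exact Ideal.mem_span_singleton'.mpr ⟨X 0 * pderiv 0 q + q, by simp [pderiv_mul]; ring⟩
  · exact Ideal.mem_span_singleton'.mpr ⟨X 1 * pderiv 1 q + q, by simp [pderiv_mul]; ring⟩

lemma constantCoeff_pderiv_eq_zero {i : Fin 2} {p : MvPolynomial (Fin 2) k} (h : p ∈ nodeIdeal k) :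
    constantCoeff (pderiv i p) = 0 := by
  obtain ⟨q, rfl⟩ := Ideal.mem_span_singleton'.mp h
  simp [pderiv_mul]

/-- The Euler derivations `X i ∂/∂X i` of the node. -/
noncomputable def euler (i : Fin 2) :
    Derivation k (MvPolynomial (Fin 2) k ⧸ nodeIdeal k) (MvPolynomial (Fin 2) k ⧸ nodeIdeal k) :=
  Derivation.liftOfSurjective (f := Ideal.Quotient.mkₐ k (nodeIdeal k))
    (Ideal.Quotient.mkₐ_surjective k (nodeIdeal k)) (d := (X i : MvPolynomial (Fin 2) k) • pderiv i)
    (fun p hp => by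
      rw [Ideal.Quotient.mkₐ_eq_mk, Ideal.Quotient.eq_zero_iff_mem] at hp ⊢
      exact pderiv_mem k hp)

lemma euler_mk (i : Fin 2) (p : MvPolynomial (Fin 2) k) :
    euler k i (Ideal.Quotient.mk (nodeIdeal k) p) = Ideal.Quotient.mk (nodeIdeal k) (X i * pderiv i p) :=
  by unfold euler; exact Derivation.liftOfSurjective_apply _ _ _

lemma mem_nodeIdeal_iff (p : MvPolynomial (Fin 2) k) :
    p ∈ nodeIdeal k ↔ ∀ m : Fin 2 →₀ ℕ, (m 0 = 0 ∨ m 1 = 0) → coeff m p = 0 := by
  classical
  have e : (X 0 * X 1 : MvPolynomial (Fin 2) k) =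
      monomial (Finsupp.single 0 1 + Finsupp.single 1 1) 1 := by
    simp [X, monomial_mul]
  have hs : nodeIdeal k = Ideal.span ((fun s => monomial s (1 : k)) ''
      {Finsupp.single (0 : Fin 2) 1 + Finsupp.single 1 1}) := by
    rw [Set.image_singleton, ← e]
  rw [hs, mem_ideal_span_monomial_image]
  have hle : ∀ m : Fin 2 →₀ ℕ,
      Finsupp.single (0 : Fin 2) 1 + Finsupp.single 1 1 ≤ m ↔ m 0 ≠ 0 ∧ m 1 ≠ 0 := by
    intro m
    refine ⟨fun h => ?_, fun h j => ?_⟩
    · have h0 := h 0
      have h1 := h 1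
      simp at h0 h1
      omega
    · fin_cases j <;> simp <;> omega
  simp only [Set.mem_singleton_iff, exists_eq_left, hle, mem_support_iff]
  refine ⟨fun h m hm => ?_, fun h m hm => ?_⟩
  · by_contra hc
    have := h m hc
    tauto
  · by_contra hc
    exact hm (h m (by tauto))

/-- The `i`-th linear coefficient. -/
noncomputable def lin (i : Fin 2) : (MvPolynomial (Fin 2) k ⧸ nodeIdeal k) →ₗ[k] k :=
  ((nodeIdeal k).restrictScalars k).liftQ
      ((MvPolynomial.aeval (fun _ => (0 : k))).toLinearMap.comp (pderiv i).toLinearMap)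
      (fun p hp => by
        have := constantCoeff_pderiv_eq_zero k (i := i) hp
        simpa [aeval_zero', constantCoeff_eq] using this)
    ∘ₗ (Submodule.Quotient.restrictScalarsEquiv k (nodeIdeal k)).symm.toLinearMap

lemma lin_mk (i : Fin 2) (p : MvPolynomial (Fin 2) k) :
    lin k i (Ideal.Quotient.mk (nodeIdeal k) p) = constantCoeff (pderiv i p) := by
  show MvPolynomial.aeval (fun _ => (0 : k)) (pderiv i p) = _
  simp [constantCoeff_eq]

/-- The functional `a ⊗ b ↦ aₓ b_y - a_y bₓ`. -/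
noncomputable def skew :
    TensorProduct k (MvPolynomial (Fin 2) k ⧸ nodeIdeal k) (MvPolynomial (Fin 2) k ⧸ nodeIdeal k) →ₗ[k] k :=
  TensorProduct.lift ((LinearMap.mul k k).compl₁₂ (lin k 0) (lin k 1) -
    (LinearMap.mul k k).compl₁₂ (lin k 1) (lin k 0))

lemma skew_tmul (a b : MvPolynomial (Fin 2) k ⧸ nodeIdeal k) :
    skew k (TensorProduct.tmul k a b) = lin k 0 a * lin k 1 b - lin k 1 a * lin k 0 b := by
  simp [skew]

lemma skew_leibniz (a b c : MvPolynomial (Fin 2) k ⧸ nodeIdeal k) :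
    skew k (TensorProduct.tmul k a (b * c)) =
      skew k (TensorProduct.tmul k (a * b) c) + skew k (TensorProduct.tmul k (a * c) b) := by
  obtain ⟨a, rfl⟩ := Ideal.Quotient.mk_surjective a
  obtain ⟨b, rfl⟩ := Ideal.Quotient.mk_surjective b
  obtain ⟨c, rfl⟩ := Ideal.Quotient.mk_surjective c
  simp only [← map_mul, skew_tmul, lin_mk]
  simp only [pderiv_mul, map_add, map_mul]
  ring

theorem D_not_surjective [Nontrivial k] :
    ¬ Function.Surjective (KaehlerDifferential.D k (MvPolynomial (Fin 2) k ⧸ nodeIdeal k)) := by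
  intro hs
  obtain ⟨P, hP⟩ := hs (Ideal.Quotient.mk (nodeIdeal k) (X 0) •
    KaehlerDifferential.D k _ (Ideal.Quotient.mk (nodeIdeal k) (X 1)))
  have h := KerD.eq_zero_of_tensorProductTo_eq_zero (skew k) (skew_leibniz k)
    (TensorProduct.tmul k (Ideal.Quotient.mk (nodeIdeal k) (X 0)) (Ideal.Quotient.mk (nodeIdeal k) (X 1)) -
      TensorProduct.tmul k 1 P) (by
      rw [map_sub, Derivation.tensorProductTo_tmul, Derivation.tensorProductTo_tmul, one_smul, hP,
        sub_self])
  have h1 : ∀ i, lin k i 1 = 0 := by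
    intro i
    rw [← map_one (Ideal.Quotient.mk (nodeIdeal k)), lin_mk]
    simp
  rw [map_sub, skew_tmul, skew_tmul] at h
  simp [lin_mk, h1] at h

theorem D_eq_zero_iff [IsDomain k] [CharZero k] (P : MvPolynomial (Fin 2) k ⧸ nodeIdeal k) :
    KaehlerDifferential.D k (MvPolynomial (Fin 2) k ⧸ nodeIdeal k) P = 0 ↔
      P ∈ Set.range (algebraMap k (MvPolynomial (Fin 2) k ⧸ nodeIdeal k)) := by
  constructor
  · intro hP
    obtain ⟨p, rfl⟩ := Ideal.Quotient.mk_surjective P
    refine ⟨coeff 0 p, ?_⟩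
    have hi : ∀ i, X i * pderiv i p ∈ nodeIdeal k := by
      intro i
      rw [← Ideal.Quotient.eq_zero_iff_mem, ← euler_mk,
        ← Derivation.liftKaehlerDifferential_comp_D (euler k i), hP, map_zero]
    show Ideal.Quotient.mk (nodeIdeal k) (algebraMap k (MvPolynomial (Fin 2) k) (coeff 0 p)) = _
    rw [Ideal.Quotient.eq, mem_nodeIdeal_iff]
    intro m hm
    classical
    rw [coeff_sub, algebraMap_eq, coeff_C]
    rcases eq_or_ne m 0 with rfl | hm0
    · simp
    · rw [if_neg (Ne.symm hm0), zero_sub, neg_eq_zero]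
      obtain ⟨i, hmi⟩ : ∃ i, m i ≠ 0 := by
        by_contra! h
        exact hm0 (Finsupp.ext h)
      have h := (mem_nodeIdeal_iff k _).mp (hi i) m hm
      rw [coeff_X_mul_pderiv] at h
      exact (mul_eq_zero.mp h).resolve_left (by exact_mod_cast hmi)
  · rintro ⟨c, rfl⟩
    exact Derivation.map_algebraMap _ _

end Groth.Agent.H19.Node
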