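import Mathlib.RingTheory.PiTensorProduct
import Mathlib.LinearAlgebra.PiTensorProduct.Basic

/-!
Algebra maps out of tensor powers of a commutative algebra, and the coordinate permutations.
-/

universe u v w

open scoped TensorProduct

namespace Groth.Agent.H19.PiTensor

variable {k : Type u} [CommRing k] {A : Type v} [CommRing A] [Algebra k A]
variable {ι : Type*} [Fintype ι] [DecidableEq ι]
variable {S : Type w} [CommRing S] [Algebra k S]

/-- The algebra map on a tensor power given by an algebra map on each factor. -/
noncomputable def piLift (f : ι → (A →ₐ[k] S)) : (⨂[k] _ : ι, A) →ₐ[k] S :=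
  PiTensorProduct.liftAlgHom
    ((MultilinearMap.mkPiAlgebra k ι S).compLinearMap fun i => (f i).toLinearMap)
    (by simp) (fun x y => by simp [Finset.prod_mul_distrib])

lemma piLift_tprod (f : ι → (A →ₐ[k] S)) (v : ι → A) :
    piLift f (PiTensorProduct.tprod k v) = ∏ i, f i (v i) := by
  exact (PiTensorProduct.lift.tprod v).trans (by simp)

@[simp] lemma piLift_single (f : ι → (A →ₐ[k] S)) (i : ι) (a : A) :
    piLift f (PiTensorProduct.singleAlgHom (R := k) (A := fun _ : ι => A) i a) = f i a := by
  rw [PiTensorProduct.singleAlgHom_apply, piLift_tprod,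
    Finset.prod_eq_single i (fun j _ hj => by simp [MonoidHom.mulSingle_apply, hj]) (by simp)]
  simp [MonoidHom.mulSingle_apply]

lemma tprod_eq_prod_single (v : ι → A) :
    PiTensorProduct.tprod k v =
      ∏ i, PiTensorProduct.singleAlgHom (R := k) (A := fun _ : ι => A) i (v i) := by
  simp only [PiTensorProduct.singleAlgHom_apply, ← PiTensorProduct.tprod_prod]
  congr 1
  ext j
  rw [Finset.prod_apply, Finset.prod_eq_single j (fun i _ hi => by
    simp [MonoidHom.mulSingle_apply, hi.symm]) (by simp)]
  simp [MonoidHom.mulSingle_apply]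

/-- Permuting the tensor factors, as an algebra map. -/
noncomputable def perm (σ : Equiv.Perm ι) : (⨂[k] _ : ι, A) →ₐ[k] (⨂[k] _ : ι, A) :=
  piLift fun i => PiTensorProduct.singleAlgHom (R := k) (A := fun _ : ι => A) (σ i)

lemma perm_single (σ : Equiv.Perm ι) (i : ι) (a : A) :
    perm σ (PiTensorProduct.singleAlgHom (R := k) (A := fun _ : ι => A) i a) =
      PiTensorProduct.singleAlgHom (R := k) (A := fun _ : ι => A) (σ i) a :=
  piLift_single _ _ _

lemma reindex_eq_perm (σ : Equiv.Perm ι) (x : ⨂[k] _ : ι, A) :
    PiTensorProduct.reindex k (fun _ : ι => A) σ x = perm σ x := by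
  induction x using PiTensorProduct.induction_on with
  | smul_tprod c v =>
    rw [map_smul, map_smul, PiTensorProduct.reindex_tprod, perm, piLift_tprod,
      tprod_eq_prod_single]
    congr 1
    exact (Equiv.prod_comp σ _).symm.trans (Finset.prod_congr rfl fun i _ => by simp)
  | add x y hx hy => rw [map_add, map_add, hx, hy]

end Groth.Agent.H19.PiTensor
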