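import Mathlib.AlgebraicGeometry.PointsPi
import Mathlib.AlgebraicGeometry.Morphisms.FiniteType
import Mathlib.RingTheory.FinitePresentation

/-!
# `Π Aᵢ`-points of schemes of finite type over `ℤ`

For a quasi-compact quasi-separated scheme `X` of finite type over `ℤ`, every family of points
`Spec Aᵢ ⟶ X` comes from a point `Spec (Π Aᵢ) ⟶ X`: the poles along a finite affine cover are made
uniform by raising the members of the partitions of unity to powers depending on `i`.
-/

set_option autoImplicit false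
universe u
open CategoryTheory Limits AlgebraicGeometry TopologicalSpace

namespace Groth.Agent.H19.PointsPiFT

set_option backward.isDefEq.respectTransparency false
set_option maxHeartbeats 1600000

variable {ι : Type u} {A : ι → Type u} [∀ i, CommRing (A i)]

/-- Componentwise power, with exponent at least one. -/
def pw (c : ∀ i, A i) (Q : ι → ℕ) : ∀ i, A i := fun i => c i ^ (Q i + 1)

/-- The localisation of the product at a componentwise power of `c`. -/
def L (c : ∀ i, A i) (Q : ι → ℕ) : Type u := Localization.Away (pw c Q)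

noncomputable instance commRingL (c : ∀ i, A i) (Q : ι → ℕ) : CommRing (L c Q) :=
  inferInstanceAs (CommRing (Localization.Away (pw c Q)))

noncomputable instance algebraL (c : ∀ i, A i) (Q : ι → ℕ) : Algebra (∀ i, A i) (L c Q) :=
  inferInstanceAs (Algebra (∀ i, A i) (Localization.Away (pw c Q)))

instance isLocalizationL (c : ∀ i, A i) (Q : ι → ℕ) : IsLocalization.Away (pw c Q) (L c Q) :=
  inferInstanceAs (IsLocalization.Away (pw c Q) (Localization.Away (pw c Q)))

variable (c : ∀ i, A i)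

lemma isUnit_ev (Q : ι → ℕ) (i : ι) :
    IsUnit (((algebraMap (A i) (Localization.Away (c i))).comp (Pi.evalRingHom A i)) (pw c Q)) := by
  simpa [pw, map_pow] using (IsLocalization.Away.algebraMap_isUnit (c i)).pow (Q i + 1)

/-- The projection to the `i`-th localisation. -/
noncomputable def ev (Q : ι → ℕ) (i : ι) : L c Q →+* Localization.Away (c i) :=
  IsLocalization.Away.lift (pw c Q) (isUnit_ev c Q i)

lemma ev_algebraMap (Q : ι → ℕ) (i : ι) (a : ∀ i, A i) :
    ev c Q i (algebraMap _ _ a) = algebraMap _ _ (a i) :=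
  IsLocalization.Away.lift_eq _ (isUnit_ev c Q i) a

lemma ev_comp (Q : ι → ℕ) (i : ι) :
    (ev c Q i).comp (algebraMap _ _) =
      (algebraMap (A i) (Localization.Away (c i))).comp (Pi.evalRingHom A i) :=
  RingHom.ext fun a => ev_algebraMap c Q i a

variable {c}

lemma isUnit_res {d : ∀ i, A i} {Q Q' : ι → ℕ} (hd : c ∣ d) (h : Q ≤ Q') :
    IsUnit (algebraMap (∀ i, A i) (L d Q') (pw c Q)) := by
  refine isUnit_of_dvd_unit (map_dvd _ ?_)
    (IsLocalization.Away.algebraMap_isUnit (S := L d Q') (pw d Q'))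
  obtain ⟨e, rfl⟩ := hd
  refine ⟨fun i => c i ^ (Q' i - Q i) * e i ^ (Q' i + 1), funext fun i => ?_⟩
  show (c i * e i) ^ (Q' i + 1) = c i ^ (Q i + 1) * (c i ^ (Q' i - Q i) * e i ^ (Q' i + 1))
  rw [mul_pow, ← mul_assoc, ← pow_add]
  congr 2
  have : Q i ≤ Q' i := h i
  omega

/-- The map between localisations. -/
noncomputable def res {d : ∀ i, A i} {Q Q' : ι → ℕ} (hd : c ∣ d) (h : Q ≤ Q') :
    L c Q →+* L d Q' :=
  IsLocalization.Away.lift (pw c Q) (isUnit_res hd h)

lemma res_algebraMap {d : ∀ i, A i} {Q Q' : ι → ℕ} (hd : c ∣ d) (h : Q ≤ Q') (a : ∀ i, A i) :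
    res hd h (algebraMap _ _ a) = algebraMap _ _ a :=
  IsLocalization.Away.lift_eq _ (isUnit_res hd h) a

lemma res_comp {d : ∀ i, A i} {Q Q' : ι → ℕ} (hd : c ∣ d) (h : Q ≤ Q') :
    (res hd h).comp (algebraMap _ _) = algebraMap (∀ i, A i) (L d Q') :=
  RingHom.ext (res_algebraMap hd h)

lemma hom_ext {Q : ι → ℕ} {R : Type*} [CommRing R] {f g : L c Q →+* R}
    (h : ∀ a : ∀ i, A i, f (algebraMap _ _ a) = g (algebraMap _ _ a)) : f = g :=
  IsLocalization.ringHom_ext (Submonoid.powers (pw c Q)) (RingHom.ext h)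

lemma res_res {d e : ∀ i, A i} {Q Q' Q'' : ι → ℕ} (hd : c ∣ d) (h : Q ≤ Q') (he : d ∣ e)
    (h' : Q' ≤ Q'') :
    (res he h').comp (res hd h) = res (hd.trans he) (h.trans h') :=
  hom_ext fun a => by simp [res_algebraMap]

lemma ev_res {Q Q' : ι → ℕ} (h : Q ≤ Q') (i : ι) :
    (ev c Q' i).comp (res dvd_rfl h) = ev c Q i :=
  hom_ext fun a => by simp [res_algebraMap, ev_algebraMap]

/-- An element of `L c Q` vanishing in every factor dies after enlarging the exponents. -/
lemma exists_res_eq_zero {Q : ι → ℕ} (x : L c Q) (hx : ∀ i, ev c Q i x = 0) :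
    ∃ Q', ∀ Q'' (h : Q ≤ Q''), Q' ≤ Q'' → res dvd_rfl h x = 0 := by
  obtain ⟨n, a, ha⟩ := IsLocalization.Away.surj (pw c Q) x
  have hai : ∀ i, algebraMap (A i) (Localization.Away (c i)) (a i) = 0 := fun i => by
    rw [← ev_algebraMap c Q i, ← ha, map_mul, hx, zero_mul]
  choose N hN using fun i => (IsLocalization.map_eq_zero_iff (Submonoid.powers (c i)) _ _).mp (hai i)
  choose k hk using fun i => (N i).2
  refine ⟨k, fun Q'' h h' => ?_⟩
  have key : algebraMap (∀ i, A i) (L c Q'') a = 0 := by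
    refine (IsLocalization.Away.algebraMap_isUnit (S := L c Q'') (pw c Q'')).mul_right_eq_zero.mp ?_
    rw [← map_mul]
    convert map_zero (algebraMap (∀ i, A i) (L c Q'')) using 2
    funext i
    have hki : c i ^ k i * a i = 0 := by simpa [hk i] using hN i
    obtain ⟨r, hr⟩ := Nat.exists_eq_add_of_le (show k i ≤ Q'' i + 1 by
      have : k i ≤ Q'' i := h' i
      omega)
    show c i ^ (Q'' i + 1) * a i = 0
    rw [hr, pow_add, mul_comm (c i ^ k i), mul_assoc, hki, mul_zero]
  have hu := (IsLocalization.Away.algebraMap_isUnit (S := L c Q) (pw c Q)).map (res dvd_rfl h)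
  have := congrArg (res dvd_rfl h) ha
  rw [map_mul, map_pow, res_algebraMap dvd_rfl h a, key] at this
  exact (hu.pow n).mul_left_eq_zero.mp this

/-- A family of ring maps out of a finitely presented ring comes from one on a localised product. -/
lemma exists_ringHom {R : Type u} [CommRing R] [Algebra.FinitePresentation ℤ R]
    (φ : ∀ i, R →+* Localization.Away (c i)) :
    ∃ Q, ∃ ψ : R →+* L c Q, ∀ i, (ev c Q i).comp ψ = φ i := by
  classical
  obtain ⟨n, σ, hσ, s, hs⟩ := Algebra.FinitePresentation.out (R := ℤ) (A := R)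
  choose N a ha using fun (i : ι) (j : Fin n) =>
    IsLocalization.Away.surj (c i) (φ i (σ (MvPolynomial.X j)))
  let Q₀ : ι → ℕ := fun i => ∑ j, N i j
  let y : Fin n → L c Q₀ := fun j =>
    IsLocalization.mk' (L c Q₀) (fun i => a i j * c i ^ (Q₀ i + 1 - N i j))
      (⟨pw c Q₀, Submonoid.mem_powers _⟩ : Submonoid.powers (pw c Q₀))
  let ψ₀ : MvPolynomial (Fin n) ℤ →+* L c Q₀ := MvPolynomial.eval₂Hom (Int.castRingHom _) y
  have hψ₀ : ∀ i, (ev c Q₀ i).comp ψ₀ = (φ i).comp σ.toRingHom := fun i => by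
    apply MvPolynomial.ringHom_ext
    · intro r
      simp [ψ₀]
    · intro j
      simp only [RingHom.comp_apply, ψ₀, MvPolynomial.eval₂Hom_X', AlgHom.toRingHom_eq_coe,
        RingHom.coe_coe]
      refine (isUnit_ev c Q₀ i).mul_left_inj.mp ?_
      have hy := congrArg (ev c Q₀ i) (IsLocalization.mk'_spec (L c Q₀)
        (fun i => a i j * c i ^ (Q₀ i + 1 - N i j))
        (⟨pw c Q₀, Submonoid.mem_powers _⟩ : Submonoid.powers (pw c Q₀)))
      rw [map_mul, ev_algebraMap, ev_algebraMap] at hy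
      rw [RingHom.comp_apply, Pi.evalRingHom_apply]
      refine hy.trans ?_
      rw [map_mul, ← ha i j, mul_assoc, ← map_pow, ← map_mul, ← pow_add, pw]
      congr 3
      have : N i j ≤ Q₀ i :=
        Finset.single_le_sum (f := fun j => N i j) (fun _ _ => Nat.zero_le _) (Finset.mem_univ j)
      omega
  have hx : ∀ g ∈ s, ∀ i, ev c Q₀ i (ψ₀ g) = 0 := fun g hg i => by
    have h0 : σ g = 0 := by
      have : g ∈ RingHom.ker σ.toRingHom := hs ▸ Ideal.subset_span hg
      exact this
    have := RingHom.congr_fun (hψ₀ i) g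
    simpa [h0] using this
  choose T hT using fun g : s => exists_res_eq_zero (ψ₀ g) (hx g g.2)
  let Q : ι → ℕ := fun i => Q₀ i + ∑ g, T g i
  have hQ : Q₀ ≤ Q := fun i => Nat.le_add_right _ _
  have hker : RingHom.ker σ.toRingHom ≤ RingHom.ker ((res (c := c) dvd_rfl hQ).comp ψ₀) := by
    rw [← hs, Ideal.span_le]
    intro g hg
    exact hT ⟨g, hg⟩ Q hQ fun i => (Finset.single_le_sum (f := fun g => T g i)
      (fun _ _ => Nat.zero_le _) (Finset.mem_univ ⟨g, hg⟩)).trans (Nat.le_add_left _ _)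
  refine ⟨Q, σ.toRingHom.liftOfSurjective hσ ⟨_, hker⟩, fun i => ?_⟩
  refine RingHom.ext fun r => ?_
  obtain ⟨p, rfl⟩ := hσ r
  rw [RingHom.comp_apply]
  erw [RingHom.liftOfRightInverse_comp_apply]
  show ((ev c Q i).comp (res dvd_rfl hQ)) (ψ₀ p) = _
  rw [ev_res]
  exact RingHom.congr_fun (hψ₀ i) p

/-- The morphism of spectra induced by a ring map. -/
noncomputable abbrev sp {R S : Type u} [CommRing R] [CommRing S] (f : R →+* S) :
    Spec (.of S) ⟶ Spec (.of R) := Spec.map (CommRingCat.ofHom f)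

lemma sp_comp {R S T : Type u} [CommRing R] [CommRing S] [CommRing T] (f : R →+* S)
    (g : S →+* T) : sp (g.comp f) = sp g ≫ sp f := by
  rw [sp, CommRingCat.ofHom_comp, Spec.map_comp]

variable {X : Scheme.{u}}

/-- Finitely many coordinates determine a point in an affine open. -/
def GoodCover (X : Scheme.{u}) : Prop :=
  ∃ U : Finset X.Opens, (⨆ V ∈ U, V) = ⊤ ∧
    ∀ V ∈ U, IsAffineOpen V ∧ Algebra.FinitePresentation ℤ Γ(X, V)

/-- Lift of a morphism from an affine scheme with range in an affine open. -/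
lemma exists_lift {V : X.Opens} (hV : IsAffineOpen V) {B : Type u} [CommRing B]
    (f : Spec (.of B) ⟶ X) (hf : Set.range f ⊆ V) :
    ∃ φ : Γ(X, V) →+* B, sp φ ≫ hV.fromSpec = f := by
  have h : Set.range f ⊆ Set.range hV.fromSpec := by rwa [hV.range_fromSpec]
  refine ⟨(Spec.preimage (IsOpenImmersion.lift hV.fromSpec f h)).hom, ?_⟩
  rw [sp, CommRingCat.ofHom_hom, Spec.map_preimage, IsOpenImmersion.lift_fac]

lemma sp_fromSpec_inj {V : X.Opens} (hV : IsAffineOpen V) {B : Type u} [CommRing B]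
    {φ ψ : Γ(X, V) →+* B} (h : sp φ ≫ hV.fromSpec = sp ψ ≫ hV.fromSpec) : φ = ψ :=
  congrArg CommRingCat.Hom.hom (Spec.map_injective ((cancel_mono hV.fromSpec).mp h))

lemma mem_range_sp_algebraMap {R : Type u} [CommRing R] (x : R) (S : Type u) [CommRing S]
    [Algebra R S] [IsLocalization.Away x S] :
    Set.range (sp (algebraMap R S)) = (PrimeSpectrum.basicOpen x : Set (PrimeSpectrum R)) :=
  PrimeSpectrum.localization_away_comap_range S x

section Piece

variable (c) (Q : ι → ℕ) (d : ∀ i, A i)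

/-- A basic open piece of `Spec (L c Q)`. -/
def Bd : Type u := Localization.Away (algebraMap (∀ i, A i) (L c Q) d)

noncomputable instance commRingBd : CommRing (Bd c Q d) :=
  inferInstanceAs (CommRing (Localization.Away (algebraMap (∀ i, A i) (L c Q) d)))

noncomputable instance algebraBd : Algebra (L c Q) (Bd c Q d) :=
  inferInstanceAs (Algebra (L c Q) (Localization.Away (algebraMap (∀ i, A i) (L c Q) d)))

instance isLocalizationBd :
    IsLocalization.Away (algebraMap (∀ i, A i) (L c Q) d) (Bd c Q d) :=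
  inferInstanceAs (IsLocalization.Away (algebraMap (∀ i, A i) (L c Q) d)
    (Localization.Away (algebraMap (∀ i, A i) (L c Q) d)))

/-- Its algebra map. -/
noncomputable abbrev toBd : L c Q →+* Bd c Q d := algebraMap _ _

/-- The factor of a basic open piece. -/
def Sd (i : ι) : Type u :=
  Localization.Away (algebraMap (A i) (Localization.Away (c i)) (d i))

noncomputable instance commRingSd (i : ι) : CommRing (Sd c d i) :=
  inferInstanceAs (CommRing (Localization.Away (algebraMap (A i) (Localization.Away (c i)) (d i))))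

noncomputable instance algebraSd (i : ι) : Algebra (Localization.Away (c i)) (Sd c d i) :=
  inferInstanceAs (Algebra (Localization.Away (c i))
    (Localization.Away (algebraMap (A i) (Localization.Away (c i)) (d i))))

instance isLocalizationSd (i : ι) :
    IsLocalization.Away (algebraMap (A i) (Localization.Away (c i)) (d i)) (Sd c d i) :=
  inferInstanceAs (IsLocalization.Away (algebraMap (A i) (Localization.Away (c i)) (d i))
    (Localization.Away (algebraMap (A i) (Localization.Away (c i)) (d i))))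

/-- Its algebra map. -/
noncomputable abbrev toSd (i : ι) : Localization.Away (c i) →+* Sd c d i := algebraMap _ _

lemma isUnit_evBd (i : ι) :
    IsUnit (((toSd c d i).comp (ev c Q i)) (algebraMap (∀ i, A i) (L c Q) d)) := by
  rw [RingHom.comp_apply, ev_algebraMap]
  exact IsLocalization.Away.algebraMap_isUnit _

/-- The projection of a piece to the factor. -/
noncomputable def evBd (i : ι) : Bd c Q d →+* Sd c d i :=
  IsLocalization.Away.lift (S := Bd c Q d) (algebraMap (∀ i, A i) (L c Q) d) (isUnit_evBd c Q d i)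

lemma evBd_comp (i : ι) : (evBd c Q d i).comp (toBd c Q d) = (toSd c d i).comp (ev c Q i) :=
  RingHom.ext fun x => IsLocalization.Away.lift_eq (S := Bd c Q d) _ (isUnit_evBd c Q d i) x

variable {Q' : ι → ℕ} (h : Q ≤ Q') (M : ι → ℕ)

lemma isUnit_resBd :
    IsUnit (((toBd c Q' (pw d M)).comp (res dvd_rfl h)) (algebraMap (∀ i, A i) (L c Q) d)) := by
  rw [RingHom.comp_apply, res_algebraMap]
  refine isUnit_of_dvd_unit (map_dvd _ (map_dvd _ ?_))
    (IsLocalization.Away.algebraMap_isUnit (S := Bd c Q' (pw d M))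
      (algebraMap (∀ i, A i) (L c Q') (pw d M)))
  exact ⟨fun i => d i ^ M i, funext fun i => pow_succ' _ _⟩

/-- The refinement map between pieces. -/
noncomputable def resBd : Bd c Q d →+* Bd c Q' (pw d M) :=
  IsLocalization.Away.lift (S := Bd c Q d) (algebraMap (∀ i, A i) (L c Q) d) (isUnit_resBd c Q d h M)

lemma resBd_comp :
    (resBd c Q d h M).comp (toBd c Q d) = (toBd c Q' (pw d M)).comp (res dvd_rfl h) :=
  RingHom.ext fun x => IsLocalization.Away.lift_eq (S := Bd c Q d) _ (isUnit_resBd c Q d h M) x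

omit h M in
/-- An element of a piece vanishing in every factor dies after refinement. -/
lemma exists_resBd_eq_zero (x : Bd c Q d) (hx : ∀ i, evBd c Q d i x = 0) :
    ∃ N : ι → ℕ, ∀ Q'' (h : Q ≤ Q'') (M : ι → ℕ), N ≤ Q'' → N ≤ M →
      resBd c Q d h M x = 0 := by
  obtain ⟨m, b, hb⟩ := IsLocalization.Away.surj (algebraMap (∀ i, A i) (L c Q) d) x
  obtain ⟨l, a, ha⟩ := IsLocalization.Away.surj (pw c Q) b
  have hai : ∀ i, ∃ N, a i * (c i * d i) ^ N = 0 := fun i => by
    have h0 : toSd c d i (algebraMap (A i) (Localization.Away (c i)) (a i)) = 0 := by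
      rw [← ev_algebraMap c Q i a, ← RingHom.comp_apply (toSd c d i), ← evBd_comp,
        RingHom.comp_apply, ← ha, map_mul (toBd c Q d), show toBd c Q d b = _ from hb.symm,
        map_mul, map_mul, hx i]
      simp
    obtain ⟨⟨_, s1, rfl⟩, hs1⟩ := (IsLocalization.map_eq_zero_iff
      (Submonoid.powers (algebraMap (A i) (Localization.Away (c i)) (d i))) (Sd c d i) _).mp h0
    replace hs1 : algebraMap (A i) (Localization.Away (c i)) (d i) ^ s1 *
        algebraMap (A i) (Localization.Away (c i)) (a i) = 0 := hs1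
    rw [← map_pow, ← map_mul] at hs1
    obtain ⟨⟨_, s2, rfl⟩, hs2⟩ :=
      (IsLocalization.map_eq_zero_iff (Submonoid.powers (c i)) _ _).mp hs1
    refine ⟨s1 + s2, ?_⟩
    calc a i * (c i * d i) ^ (s1 + s2)
        = (c i ^ s2 * (d i ^ s1 * a i)) * (c i ^ s1 * d i ^ s2) := by ring
      _ = 0 := by rw [show c i ^ s2 * (d i ^ s1 * a i) = 0 from hs2, zero_mul]
  choose N hN using hai
  refine ⟨N, fun Q'' h M hQ hM => ?_⟩
  have hz : a * (pw c Q'' * pw d M) = 0 := funext fun i => by
    obtain ⟨e₁, he₁⟩ := Nat.exists_eq_add_of_le (show N i ≤ Q'' i + 1 from (hQ i).trans (Nat.le_succ _))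
    obtain ⟨e₂, he₂⟩ := Nat.exists_eq_add_of_le (show N i ≤ M i + 1 from (hM i).trans (Nat.le_succ _))
    show a i * (c i ^ (Q'' i + 1) * d i ^ (M i + 1)) = 0
    rw [he₁, he₂]
    calc a i * (c i ^ (N i + e₁) * d i ^ (N i + e₂))
        = (a i * (c i * d i) ^ N i) * (c i ^ e₁ * d i ^ e₂) := by ring
      _ = 0 := by rw [hN, zero_mul]
  have key : toBd c Q'' (pw d M) (algebraMap (∀ i, A i) (L c Q'') a) = 0 := by
    have hu' : IsUnit (toBd c Q'' (pw d M)
        (algebraMap (∀ i, A i) (L c Q'') (pw c Q'' * pw d M))) := by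
      rw [map_mul, map_mul]
      exact ((IsLocalization.Away.algebraMap_isUnit (pw c Q'')).map _).mul
        (IsLocalization.Away.algebraMap_isUnit (S := Bd c Q'' (pw d M)) (algebraMap (∀ i, A i) (L c Q'') (pw d M)))
    refine hu'.mul_left_eq_zero.mp ?_
    rw [← map_mul, ← map_mul, hz, map_zero, map_zero]
  have hud : IsUnit (resBd c Q d h M (toBd c Q d (algebraMap (∀ i, A i) (L c Q) d))) :=
    (IsLocalization.Away.algebraMap_isUnit (S := Bd c Q d) _).map _
  have huc : IsUnit (resBd c Q d h M (toBd c Q d (algebraMap (∀ i, A i) (L c Q) (pw c Q)))) :=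
    ((IsLocalization.Away.algebraMap_isUnit (pw c Q)).map _).map _
  refine (hud.pow m).mul_left_eq_zero.mp ((huc.pow l).mul_left_eq_zero.mp ?_)
  rw [← map_pow, ← map_mul, hb, ← map_pow, ← map_mul, ← map_pow, ← map_mul, ha,
    ← RingHom.comp_apply (resBd c Q d h M), resBd_comp, RingHom.comp_apply, res_algebraMap, key]

end Piece

lemma sp_ev_res {d : ∀ i, A i} {Q Q' : ι → ℕ} (hd : c ∣ d) (h : Q ≤ Q') (i : ι)
    (g : Spec (.of (L c Q)) ⟶ X) (f : Spec (.of (A i)) ⟶ X)
    (hg : sp (ev c Q i) ≫ g = sp (algebraMap (A i) (Localization.Away (c i))) ≫ f) :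
    sp (ev d Q' i) ≫ sp (res hd h) ≫ g =
      sp (algebraMap (A i) (Localization.Away (d i))) ≫ f := by
  have hu : IsUnit (algebraMap (A i) (Localization.Away (d i)) (c i)) :=
    isUnit_of_dvd_unit (map_dvd _ (map_dvd (Pi.evalRingHom A i) hd))
      (IsLocalization.Away.algebraMap_isUnit (d i))
  have he : (ev d Q' i).comp (res hd h) =
      (IsLocalization.Away.lift (c i) hu).comp (ev c Q i) :=
    hom_ext fun x => by
      rw [RingHom.comp_apply, RingHom.comp_apply, res_algebraMap, ev_algebraMap, ev_algebraMap]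
      exact (IsLocalization.Away.lift_eq _ hu _).symm
  rw [← Category.assoc, ← sp_comp, he, sp_comp, Category.assoc, hg, ← Category.assoc, ← sp_comp]
  have e : (IsLocalization.Away.lift (S := Localization.Away (c i)) (c i) hu).comp
      (algebraMap (A i) (Localization.Away (c i))) =
      algebraMap (A i) (Localization.Away (d i)) :=
    RingHom.ext fun x => (RingHom.comp_apply _ _ x).trans
      (IsLocalization.Away.lift_eq (S := Localization.Away (c i)) (c i) hu x)
  rw [e]

/-- Agreement on every factor forces agreement after enlarging exponents. -/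
lemma exists_res_comp_eq [QuasiSeparatedSpace X] (hX : GoodCover X) {Q : ι → ℕ}
    (f g : Spec (.of (L c Q)) ⟶ X) (h : ∀ i, sp (ev c Q i) ≫ f = sp (ev c Q i) ≫ g) :
    ∃ Q', ∀ Q'' (hle : Q ≤ Q''), Q' ≤ Q'' →
      sp (res (dvd_refl c) hle) ≫ f = sp (res (dvd_refl c) hle) ≫ g := by
  classical
  obtain ⟨U, hUtop, hU⟩ := hX
  -- the open where both land in a common chart
  let W : X.Opens → Set (PrimeSpectrum (L c Q)) := fun V => f ⁻¹' (V : Set X) ∩ g ⁻¹' (V : Set X)
  have hWopen : ∀ V, IsOpen (W V) := fun V => (f ⁻¹ᵁ V).2.inter (g ⁻¹ᵁ V).2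
  have hWc : ∀ V ∈ U, IsCompact (W V) := fun V hV => by
    have hf : IsCompact (f ⁻¹' (V : Set X)) := f.isCompact_preimage (hU V hV).1.isCompact
    have hg : IsCompact (g ⁻¹' (V : Set X)) := g.isCompact_preimage (hU V hV).1.isCompact
    exact QuasiSeparatedSpace.inter_isCompact _ _ (f ⁻¹ᵁ V).2 hf (g ⁻¹ᵁ V).2 hg
  have hfin : ∀ V : U, ∃ s : Finset (∀ i, A i),
      W V.1 = ⋃ d ∈ s, (PrimeSpectrum.basicOpen (algebraMap _ (L c Q) d) : Set _) := by
    intro V
    obtain ⟨s, hs, e⟩ := (PrimeSpectrum.isBasis_basic_opens.isCompact_open_iff_eq_finite_iUnion _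
      (fun b => PrimeSpectrum.isCompact_basicOpen _) _).mp ⟨hWc V.1 V.2, hWopen V.1⟩
    choose m d hd using fun x : L c Q => IsLocalization.Away.surj (pw c Q) x
    refine ⟨hs.toFinset.image d, ?_⟩
    rw [e]
    simp only [Finset.mem_image, Set.Finite.mem_toFinset, Set.iUnion_exists, Set.biUnion_and',
      Set.iUnion_iUnion_eq_right]
    refine Set.iUnion₂_congr fun x _ => ?_
    rw [← hd x, PrimeSpectrum.basicOpen_mul]
    have : PrimeSpectrum.basicOpen ((algebraMap (∀ i, A i) (L c Q) (pw c Q)) ^ m x) = ⊤ := by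
      refine top_le_iff.mp fun y _ hy => y.2.ne_top (Ideal.eq_top_of_isUnit_mem _ hy ?_)
      exact (IsLocalization.Away.algebraMap_isUnit (pw c Q)).pow _
    simp [this]
  choose s hs using hfin
  let J := Σ V : U, (s V : Finset (∀ i, A i))
  let d : J → ∀ i, A i := fun j => j.2.1
  have hsub : ∀ (j : J) (x : PrimeSpectrum (L c Q)),
      algebraMap _ (L c Q) (d j) ∉ x.asIdeal → x ∈ W j.1.1 := fun j x hx => by
    rw [hs j.1]
    exact Set.mem_biUnion j.2.2 hx
  -- the cover of each factor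
  have hcov : ∀ i, ∀ p : PrimeSpectrum (Localization.Away (c i)), ∃ j : J,
      algebraMap _ _ (d j i) ∉ p.asIdeal := fun i p => by
    let x := sp (ev c Q i) p
    have hfg : f x = g x := by
      rw [← Scheme.Hom.comp_apply, h i, Scheme.Hom.comp_apply]
    have : f x ∈ (⨆ V ∈ U, V) := hUtop ▸ trivial
    simp only [Opens.mem_iSup] at this
    obtain ⟨V, hV, hxV⟩ := this
    have hxW : x ∈ W V := ⟨hxV, show g x ∈ V from hfg ▸ hxV⟩
    rw [hs ⟨V, hV⟩] at hxW
    simp only [Set.mem_iUnion] at hxW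
    obtain ⟨e, he, hxe⟩ := hxW
    refine ⟨⟨⟨V, hV⟩, ⟨e, he⟩⟩, fun hp => hxe ?_⟩
    show algebraMap _ _ e ∈ Ideal.comap (ev c Q i) p.asIdeal
    rw [Ideal.mem_comap, ev_algebraMap]
    exact hp
  -- ring maps on the pieces
  have hlift : ∀ j : J, ∃ φ₁ φ₂ : Γ(X, j.1.1) →+* Bd c Q (d j),
      sp φ₁ ≫ (hU _ j.1.2).1.fromSpec = sp (toBd c Q (d j)) ≫ f ∧
      sp φ₂ ≫ (hU _ j.1.2).1.fromSpec = sp (toBd c Q (d j)) ≫ g := fun j => by
    have hr : ∀ y, sp (toBd c Q (d j)) y ∈ W j.1.1 := fun y => by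
      have : sp (toBd c Q (d j)) y ∈ Set.range (sp (toBd c Q (d j))) := ⟨y, rfl⟩
      rw [mem_range_sp_algebraMap (algebraMap (∀ i, A i) (L c Q) (d j))] at this
      exact hsub j _ this
    obtain ⟨φ₁, h₁⟩ := exists_lift (hU _ j.1.2).1 (sp (toBd c Q (d j)) ≫ f)
      (by rintro _ ⟨y, rfl⟩; exact (hr y).1)
    obtain ⟨φ₂, h₂⟩ := exists_lift (hU _ j.1.2).1 (sp (toBd c Q (d j)) ≫ g)
      (by rintro _ ⟨y, rfl⟩; exact (hr y).2)
    exact ⟨φ₁, φ₂, h₁, h₂⟩
  choose φ₁ φ₂ h₁ h₂ using hlift
  have hgen : ∀ j : J, ∃ G : Finset Γ(X, j.1.1), Algebra.adjoin ℤ (G : Set Γ(X, j.1.1)) = ⊤ :=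
    fun j => by
      have := (hU _ j.1.2).2
      exact (inferInstance : Algebra.FiniteType ℤ Γ(X, j.1.1)).out
  choose G hG using hgen
  have hzero : ∀ (j : J) (i : ι) (r : Γ(X, j.1.1)), evBd c Q (d j) i (φ₁ j r - φ₂ j r) = 0 :=
    fun j i r => by
      have heq : (evBd c Q (d j) i).comp (φ₁ j) = (evBd c Q (d j) i).comp (φ₂ j) := by
        apply sp_fromSpec_inj (hU _ j.1.2).1
        rw [sp_comp, sp_comp, Category.assoc, Category.assoc, h₁, h₂, ← Category.assoc,
          ← Category.assoc, ← sp_comp, evBd_comp, sp_comp, Category.assoc, Category.assoc, h i]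
      rw [map_sub, sub_eq_zero]
      exact RingHom.congr_fun heq r
  choose N hN using fun (j : J) (r : Γ(X, j.1.1)) =>
    exists_resBd_eq_zero c Q (d j) (φ₁ j r - φ₂ j r) (fun i => hzero j i r)
  let M : ι → ℕ := fun i => ∑ j : J, ∑ r ∈ G j, N j r i
  have hMN : ∀ (j : J) (r), r ∈ G j → ∀ i, N j r i ≤ M i := fun j r hr i =>
    (Finset.single_le_sum (f := fun r => N j r i) (fun _ _ => Nat.zero_le _) hr).trans
      (Finset.single_le_sum (f := fun j : J => ∑ r ∈ G j, N j r i) (fun _ _ => Nat.zero_le _)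
        (Finset.mem_univ j))
  have hspan : ∀ i, ∃ k : ℕ, c i ^ k ∈ Ideal.span (Set.range fun j : J => d j i ^ (M i + 1)) := by
    intro i
    suffices hr : c i ∈ (Ideal.span (Set.range fun j : J => d j i ^ (M i + 1))).radical from hr
    rw [Ideal.radical_eq_sInf, Submodule.mem_sInf]
    rintro p ⟨hp, hpp⟩
    by_contra hcp
    have hdisj : Disjoint (Submonoid.powers (c i) : Set (A i)) (p : Set (A i)) := by
      rw [Set.disjoint_left]
      rintro _ ⟨k, rfl⟩ hk
      exact hcp (hpp.mem_of_pow_mem k hk)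
    let q : PrimeSpectrum (Localization.Away (c i)) :=
      ⟨_, IsLocalization.isPrime_of_isPrime_disjoint _ _ _ hpp hdisj⟩
    obtain ⟨j, hj⟩ := hcov i q
    exact hj (Ideal.mem_map_of_mem _ (hpp.mem_of_pow_mem _ (hp (Ideal.subset_span ⟨j, rfl⟩))))
  choose k hk using hspan
  refine ⟨M + k, fun Q'' hle hQ'' => ?_⟩
  let d' : J → L c Q'' := fun j => algebraMap _ (L c Q'') (pw (d j) M)
  have htop : Ideal.span (Set.range d') = ⊤ := by
    apply Ideal.eq_top_of_isUnit_mem _ ?_ (IsLocalization.Away.algebraMap_isUnit (pw c Q''))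
    have hmem : ∀ i, pw c Q'' i ∈ Ideal.span (Set.range fun j : J => d j i ^ (M i + 1)) :=
      fun i => by
        obtain ⟨r, hr⟩ := Nat.exists_eq_add_of_le (show k i ≤ Q'' i + 1 by
          have : M i + k i ≤ Q'' i := hQ'' i
          omega)
        show c i ^ (Q'' i + 1) ∈ _
        rw [hr, pow_add]
        exact Ideal.mul_mem_right _ _ (hk i)
    simp only [Ideal.mem_span_range_iff_exists_fun] at hmem
    choose e he using hmem
    rw [Ideal.mem_span_range_iff_exists_fun]
    refine ⟨fun j => algebraMap _ _ (fun i => e i j), ?_⟩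
    simp only [d', ← map_mul, ← map_sum]
    congr 1
    funext i
    rw [Finset.sum_apply]
    exact he i
  have hcover : ∀ x : PrimeSpectrum (L c Q''), ∃ j, d' j ∉ x.asIdeal := fun x => by
    by_contra hx
    push Not at hx
    exact x.2.ne_top (top_le_iff.mp (htop ▸ Ideal.span_le.mpr (by rintro _ ⟨j, rfl⟩; exact hx j)))
  refine ((Scheme.affineOpenCoverOfSpanRangeEqTop (R := .of (L c Q'')) d' htop).openCover).hom_ext
    _ _ fun j => ?_
  show sp (algebraMap (L c Q'') (Localization.Away (d' j))) ≫ sp (res (dvd_refl c) hle) ≫ f =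
    sp (algebraMap (L c Q'') (Localization.Away (d' j))) ≫ sp (res (dvd_refl c) hle) ≫ g
  have heq : (resBd c Q (d j) hle M).comp (φ₁ j) = (resBd c Q (d j) hle M).comp (φ₂ j) := by
    suffices H : ((resBd c Q (d j) hle M).comp (φ₁ j)).toIntAlgHom =
        ((resBd c Q (d j) hle M).comp (φ₂ j)).toIntAlgHom from
      RingHom.ext fun r => AlgHom.congr_fun H r
    refine AlgHom.ext_of_adjoin_eq_top (hG j) fun r hr => ?_
    show resBd c Q (d j) hle M (φ₁ j r) = resBd c Q (d j) hle M (φ₂ j r)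
    rw [← sub_eq_zero, ← map_sub]
    exact hN j r Q'' hle M (fun i => (hMN j r hr i).trans ((Nat.le_add_right _ _).trans (hQ'' i)))
      (hMN j r hr)
  show sp (toBd c Q'' (pw (d j) M)) ≫ _ = sp (toBd c Q'' (pw (d j) M)) ≫ _
  rw [← Category.assoc, ← Category.assoc, ← sp_comp, ← resBd_comp, sp_comp, Category.assoc,
    Category.assoc, ← h₁, ← h₂, ← Category.assoc, ← Category.assoc, ← sp_comp, ← sp_comp, heq]

lemma sp_eval_piece {Q₀ Q : ι → ℕ} (h : Q₀ ≤ Q) (i : ι) (g : Spec (.of (L c Q₀)) ⟶ X)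
    (F : Spec (.of (∀ i, A i)) ⟶ X)
    (hF : sp (algebraMap (∀ i, A i) (L c Q)) ≫ F = sp (res (dvd_refl c) h) ≫ g)
    (f : Spec (.of (A i)) ⟶ X)
    (hg : sp (ev c Q₀ i) ≫ g = sp (algebraMap (A i) (Localization.Away (c i))) ≫ f) :
    sp (algebraMap (A i) (Localization.Away (pw c Q i))) ≫ sp (Pi.evalRingHom A i) ≫ F =
      sp (algebraMap (A i) (Localization.Away (pw c Q i))) ≫ f := by
  have hu : IsUnit (algebraMap (A i) (Localization.Away (pw c Q i)) (c i)) :=
    isUnit_of_dvd_unit (map_dvd _ (show c i ∣ pw c Q i from dvd_pow_self _ (Nat.succ_ne_zero _)))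
      (IsLocalization.Away.algebraMap_isUnit (pw c Q i))
  have he0 : (IsLocalization.Away.lift (S := Localization.Away (c i)) (c i) hu).comp
      (algebraMap (A i) (Localization.Away (c i))) =
      algebraMap (A i) (Localization.Away (pw c Q i)) :=
    RingHom.ext fun x => (RingHom.comp_apply _ _ x).trans
      (IsLocalization.Away.lift_eq (S := Localization.Away (c i)) (c i) hu x)
  have he : (algebraMap (A i) (Localization.Away (pw c Q i))).comp (Pi.evalRingHom A i) =
      ((IsLocalization.Away.lift (S := Localization.Away (c i)) (c i) hu).comp (ev c Q i)).comp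
        (algebraMap (∀ i, A i) (L c Q)) := by
    rw [RingHom.comp_assoc, ev_comp, ← RingHom.comp_assoc, he0]
  rw [← Category.assoc, ← sp_comp, he, sp_comp, Category.assoc, hF, sp_comp, Category.assoc,
    ← Category.assoc (sp (ev c Q i)), ← sp_comp, ev_res, hg, ← Category.assoc, ← sp_comp, he0]

/-- Overlaps of the pieces. -/
lemma compat_piece {c' : ∀ i, A i} {Q : ι → ℕ} (G : Spec (.of (L c Q)) ⟶ X)
    (G' : Spec (.of (L c' Q)) ⟶ X)
    (h : sp (res (dvd_mul_right c c') (le_refl Q)) ≫ G =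
      sp (res (dvd_mul_left c' c) (le_refl Q)) ≫ G') :
    pullback.fst (sp (algebraMap (∀ i, A i) (L c Q))) (sp (algebraMap (∀ i, A i) (L c' Q))) ≫ G =
      pullback.snd (sp (algebraMap (∀ i, A i) (L c Q))) (sp (algebraMap (∀ i, A i) (L c' Q))) ≫
        G' := by
  let q : Spec (.of (L (c * c') Q)) ⟶
      pullback (sp (algebraMap (∀ i, A i) (L c Q))) (sp (algebraMap (∀ i, A i) (L c' Q))) :=
    pullback.lift (sp (res (dvd_mul_right c c') le_rfl)) (sp (res (dvd_mul_left c' c) le_rfl))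
      (by rw [← sp_comp, ← sp_comp, res_comp, res_comp])
  have hoi : ∀ d : ∀ i, A i, IsOpenImmersion (sp (algebraMap (∀ i, A i) (L d Q))) :=
    fun d => IsOpenImmersion.of_isLocalization (pw d Q)
  have := hoi c
  have := hoi c'
  let p := pullback.fst (sp (algebraMap (∀ i, A i) (L c Q))) (sp (algebraMap (∀ i, A i) (L c' Q))) ≫
    sp (algebraMap (∀ i, A i) (L c Q))
  have hqp : q ≫ p = sp (algebraMap (∀ i, A i) (L (c * c') Q)) := by
    simp only [q, p, pullback.lift_fst_assoc, ← sp_comp, res_comp]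
  have : IsOpenImmersion (q ≫ p) := hqp ▸ hoi _
  have : IsOpenImmersion q := IsOpenImmersion.of_comp q p
  have : Surjective q := ⟨fun y => by
    have h1 : p y ∈ Set.range (sp (algebraMap (∀ i, A i) (L c Q))) := ⟨_, rfl⟩
    have h2 : p y ∈ Set.range (sp (algebraMap (∀ i, A i) (L c' Q))) :=
      ⟨pullback.snd (sp (algebraMap (∀ i, A i) (L c Q)))
          (sp (algebraMap (∀ i, A i) (L c' Q))) y, by
        rw [← Scheme.Hom.comp_apply, ← pullback.condition]⟩
    rw [mem_range_sp_algebraMap (pw c Q)] at h1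
    rw [mem_range_sp_algebraMap (pw c' Q)] at h2
    have h3 : p y ∈ Set.range (q ≫ p) := by
      rw [hqp, mem_range_sp_algebraMap (pw (c * c') Q),
        show pw (c * c') Q = pw c Q * pw c' Q from funext fun i => mul_pow _ _ _,
        PrimeSpectrum.basicOpen_mul]
      exact ⟨h1, h2⟩
    obtain ⟨z, hz⟩ := h3
    exact ⟨z, p.isOpenEmbedding.injective hz⟩⟩
  have : IsIso q := (isIso_iff_isOpenImmersion_and_surjective q).mpr ⟨inferInstance, inferInstance⟩
  rw [← cancel_epi q, pullback.lift_fst_assoc, pullback.lift_snd_assoc]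
  exact h

/-- A family of points of a scheme of finite type over `ℤ` glues to a point with values in the
product ring. -/
theorem pointsPi_surjective [QuasiSeparatedSpace X] (hX : GoodCover X)
    (f : ∀ i, Spec (.of (A i)) ⟶ X) :
    ∃ F : Spec (.of (∀ i, A i)) ⟶ X, ∀ i, sp (Pi.evalRingHom A i) ≫ F = f i := by
  classical
  have hX' := hX
  obtain ⟨U, hUtop, hU⟩ := hX
  -- partitions of unity
  have hpart : ∀ i, ∃ a : U → A i, ∑ V, a V = 1 ∧
      ∀ V p, a V ∉ (p : PrimeSpectrum (A i)).asIdeal → f i p ∈ V.1 := fun i => by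
    let I : U → Ideal (A i) := fun V =>
      PrimeSpectrum.vanishingIdeal ((f i ⁻¹' (V.1 : Set X))ᶜ)
    have hI : (⨆ V, I V) = ⊤ := by
      by_contra hne
      obtain ⟨m, hm, hle⟩ := Ideal.exists_le_maximal _ hne
      let p : PrimeSpectrum (A i) := ⟨m, hm.isPrime⟩
      have : f i p ∈ (⨆ V ∈ U, V) := hUtop ▸ trivial
      simp only [Opens.mem_iSup] at this
      obtain ⟨V, hV, hpV⟩ := this
      have hcl : IsClosed ((f i ⁻¹' (V : Set X))ᶜ) := ((f i) ⁻¹ᵁ V).2.isClosed_compl
      have : p ∈ PrimeSpectrum.zeroLocus (I ⟨V, hV⟩ : Set (A i)) := fun x hx =>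
        (le_iSup I ⟨V, hV⟩).trans hle hx
      rw [PrimeSpectrum.zeroLocus_vanishingIdeal_eq_closure, hcl.closure_eq] at this
      exact this hpV
    have h1 : (1 : A i) ∈ ⨆ V ∈ (Finset.univ : Finset U), I V := by
      simp [hI]
    obtain ⟨μ, hμ⟩ := (Submodule.mem_iSup_finset_iff_exists_sum _ _).mp h1
    refine ⟨fun V => (μ V : A i), hμ, fun V p hp => ?_⟩
    by_contra hpV
    exact hp ((PrimeSpectrum.mem_vanishingIdeal _ _).mp (μ V).2 p hpV)
  choose a' ha1 ha2 using hpart
  let a : U → ∀ i, A i := fun V i => a' i V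
  have hlift : ∀ (V : U) (i : ι), ∃ φ : Γ(X, V.1) →+* Localization.Away (a V i),
      sp φ ≫ (hU _ V.2).1.fromSpec = sp (algebraMap _ (Localization.Away (a V i))) ≫ f i :=
    fun V i => exists_lift (hU _ V.2).1 _ (by
      rintro _ ⟨y, rfl⟩
      have : sp (algebraMap (A i) (Localization.Away (a V i))) y ∈
          Set.range (sp (algebraMap (A i) (Localization.Away (a V i)))) := ⟨y, rfl⟩
      rw [mem_range_sp_algebraMap (a V i)] at this
      exact ha2 i V _ this)
  choose φ hφ using hlift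
  have hψ : ∀ V : U, ∃ Q, ∃ ψ : Γ(X, V.1) →+* L (a V) Q, ∀ i, (ev (a V) Q i).comp ψ = φ V i :=
    fun V => by
      have := (hU _ V.2).2
      exact exists_ringHom (φ V)
  choose Q₀ ψ hψ using hψ
  let Q₁ : ι → ℕ := fun i => ∑ V, Q₀ V i
  have hQ₁ : ∀ V, Q₀ V ≤ Q₁ := fun V i =>
    Finset.single_le_sum (f := fun V => Q₀ V i) (fun _ _ => Nat.zero_le _) (Finset.mem_univ V)
  let g : ∀ V : U, Spec (.of (L (a V) (Q₀ V))) ⟶ X := fun V => sp (ψ V) ≫ (hU _ V.2).1.fromSpec
  have hg : ∀ V i, sp (ev (a V) (Q₀ V) i) ≫ g V =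
      sp (algebraMap _ (Localization.Away (a V i))) ≫ f i := fun V i => by
    rw [← hφ, ← hψ, sp_comp, Category.assoc]
  -- agreement on overlaps
  have hpair : ∀ V W : U, ∃ T, ∀ T' (hle : Q₁ ≤ T'), T ≤ T' →
      sp (res (dvd_mul_right (a V) (a W)) ((hQ₁ V).trans hle)) ≫ g V =
      sp (res (dvd_mul_left (a W) (a V)) ((hQ₁ W).trans hle)) ≫ g W := fun V W => by
    have key : ∀ (Z : U) (hZ : a Z ∣ a V * a W) (i : ι),
        sp (ev (a V * a W) Q₁ i) ≫ sp (res hZ (hQ₁ Z)) ≫ g Z =
          sp (algebraMap (A i) (Localization.Away ((a V * a W) i))) ≫ f i := fun Z hZ i =>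
      sp_ev_res hZ (hQ₁ Z) i (g Z) (f i) (hg Z i)
    obtain ⟨T, hT⟩ := exists_res_comp_eq hX' (sp (res (dvd_mul_right (a V) (a W)) (hQ₁ V)) ≫ g V)
      (sp (res (dvd_mul_left (a W) (a V)) (hQ₁ W)) ≫ g W)
      (fun i => (key V _ i).trans (key W _ i).symm)
    refine ⟨T, fun T' hle hT' => ?_⟩
    have := hT T' hle hT'
    rwa [← Category.assoc (sp _) (sp _) (g V), ← Category.assoc (sp _) (sp _) (g W), ← sp_comp,
      ← sp_comp, res_res, res_res] at this
  choose T hT using hpair
  let Q : ι → ℕ := fun i => Q₁ i + ∑ V, ∑ W, T V W i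
  have hQ : Q₁ ≤ Q := fun i => Nat.le_add_right _ _
  have hTQ : ∀ V W, T V W ≤ Q := fun V W i =>
    ((Finset.single_le_sum (f := fun W => T V W i) (fun _ _ => Nat.zero_le _)
      (Finset.mem_univ W)).trans
      (Finset.single_le_sum (f := fun V => ∑ W, T V W i) (fun _ _ => Nat.zero_le _)
        (Finset.mem_univ V))).trans (Nat.le_add_left _ _)
  let b : U → ∀ i, A i := fun V => pw (a V) Q
  have htop : Ideal.span (Set.range b) = ⊤ :=
    Ideal.span_eq_top_of_span_image_evalRingHom _ (Set.finite_range b) fun i => by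
      have h1 : Ideal.span (Set.range (a' i)) = ⊤ := by
        rw [Ideal.eq_top_iff_one, ← ha1 i]
        exact Submodule.sum_mem _ fun V _ => Ideal.subset_span ⟨V, rfl⟩
      have := Ideal.span_pow_eq_top _ h1 (Q i + 1)
      rw [← Set.range_comp] at this ⊢
      exact this
  let 𝒰 := (Scheme.affineOpenCoverOfSpanRangeEqTop (R := .of (∀ i, A i)) b htop).openCover
  let G : ∀ V : U, Spec (.of (L (a V) Q)) ⟶ X := fun V =>
    sp (res (dvd_refl (a V)) ((hQ₁ V).trans hQ)) ≫ g V
  have compat : ∀ V W : U,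
      pullback.fst (sp (algebraMap (∀ i, A i) (L (a V) Q)))
          (sp (algebraMap (∀ i, A i) (L (a W) Q))) ≫ G V =
      pullback.snd (sp (algebraMap (∀ i, A i) (L (a V) Q)))
          (sp (algebraMap (∀ i, A i) (L (a W) Q))) ≫ G W := fun V W => by
    apply compat_piece
    show sp _ ≫ sp (res _ _) ≫ g V = sp _ ≫ sp (res _ _) ≫ g W
    rw [← Category.assoc (sp _) (sp _) (g V), ← Category.assoc (sp _) (sp _) (g W), ← sp_comp,
      ← sp_comp, res_res, res_res]
    exact hT V W Q hQ (hTQ V W)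
  refine ⟨𝒰.glueMorphisms G compat, fun i => ?_⟩
  have hi : Ideal.span (Set.range fun V => b V i) = ⊤ := by
    have := congrArg (Ideal.map (Pi.evalRingHom A i)) htop
    rwa [Ideal.map_span, Ideal.map_top, ← Set.range_comp] at this
  refine (Scheme.affineOpenCoverOfSpanRangeEqTop (R := .of (A i))
    (fun V => b V i) hi).openCover.hom_ext _ _ fun V => ?_
  exact sp_eval_piece ((hQ₁ V).trans hQ) i (g V) _ (𝒰.ι_glueMorphisms G compat V) (f i) (hg V i)

end Groth.Agent.H19.PointsPiFT
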