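import Groth.Agent.Lib.DeRhamAlg.Homotopy
import Mathlib.RingTheory.Kaehler.Basic
import Mathlib.Algebra.Polynomial.Derivation
import Mathlib.Algebra.Polynomial.AlgebraMap

/-!
Homotopy invariance `A → A[X]` of the algebraic de Rham complex in characteristic zero.
-/

universe u

open Polynomial exteriorPower

namespace Groth.Agent.H19.PolyHomotopy

open Groth.Agent.Lib.DeRhamAlg.Basic Groth.Agent.Lib.DeRhamAlg.Homotopy

variable {R A : Type u} [CommRing R] [CommRing A] [Algebra R A]


/-- The forms of degree `i` on `A[X]`. -/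
abbrev Om (R A : Type u) [CommRing R] [CommRing A] [Algebra R A] (i : ℕ) : Type u :=
  ↥(⋀[A[X]]^i (Ω[A[X]⁄R]))

/-- The form dual to the derivation `X d/dX`. -/
noncomputable def φ : (Ω[A[X]⁄R]) →ₗ[A[X]] A[X] :=
  ((X : A[X]) • ((Polynomial.derivative' (R := A)).restrictScalars R)).liftKaehlerDifferential

lemma φ_D (f : A[X]) : φ ((KaehlerDifferential.D R A[X]) f) = X * derivative f := by
  rw [φ, Derivation.liftKaehlerDifferential_comp_D]
  rfl

variable (d' : ∀ p : ℕ, (Om R A p) →ₗ[R] (Om R A (p + 1)))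

/-- The Lie derivative in all degrees. -/
noncomputable def L : ∀ i : ℕ, (Om R A i) →ₗ[R] (Om R A i)
  | 0 => (contract φ 0).restrictScalars R ∘ₗ d' 0
  | p + 1 => lie d' φ p

variable {d'}

variable (hd' : DeRham.IsDiff (KaehlerDifferential.D R A[X]) d')

include hd'

lemma L_smul {i : ℕ} (a : A[X]) (x : Om R A i) :
    L d' i (a • x) = φ ((KaehlerDifferential.D R A[X]) a) • x + a • L d' i x := by
  cases i with
  | zero =>
    show contract φ 0 (d' 0 (a • x)) = _ + a • contract φ 0 (d' 0 x)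
    rw [d_smul hd'.1 (span_range_D_eq_top R A[X]), map_add, map_smul, contract_wedge_zero]
  | succ p => exact lie_smul φ hd'.1 (span_range_D_eq_top R A[X]) a x

lemma L_wedge {i : ℕ} (c : A[X]) (x : Om R A i) :
    L d' (i + 1) (wedge ((KaehlerDifferential.D R A[X]) c) i x) = wedge ((KaehlerDifferential.D R A[X]) (φ ((KaehlerDifferential.D R A[X]) c))) i x + wedge ((KaehlerDifferential.D R A[X]) c) i (L d' i x) := by
  cases i with
  | zero => exact lie_wedge_zero φ hd'.1 (span_range_D_eq_top R A[X]) c x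
  | succ p => exact lie_wedge φ hd'.1 (span_range_D_eq_top R A[X]) c x

lemma d_L {i : ℕ} (x : Om R A i) : d' i (L d' i x) = L d' (i + 1) (d' i x) := by
  cases i with
  | zero =>
    show d' 0 (contract φ 0 (d' 0 x)) = lie d' φ 0 (d' 0 x)
    rw [lie_apply, show d' 1 (d' 0 x) = 0 from LinearMap.congr_fun (hd'.2 0) x, map_zero, add_zero]
  | succ p => exact d_lie φ hd' p x

lemma L_mem_coboundaries {i : ℕ} (x : Om R A i) (hx : d' i x = 0) :
    L d' i x ∈ DeRham.coboundaries d' i := by
  cases i with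
  | zero =>
    show contract φ 0 (d' 0 x) ∈ _
    rw [hx, map_zero]; exact zero_mem _
  | succ p =>
    show lie d' φ p x ∈ LinearMap.range (d' p)
    rw [lie_apply, hx, map_zero, add_zero]
    exact ⟨_, rfl⟩

variable {ψ : ∀ p : ℕ, ↥(⋀[A]^p (Ω[A⁄R])) →+ Om R A p}
  (hψ : DeRham.IsCxMap (KaehlerDifferential.D R A) (KaehlerDifferential.D R A[X]) (algebraMap A A[X]) ψ)

include hψ

omit hd' in
lemma ψ_smul {i : ℕ} (a : A) (x : ↥(⋀[A]^i (Ω[A⁄R]))) : ψ i (a • x) = C a • ψ i x := by
  induction x using gen_induction (KaehlerDifferential.D R A) (span_range_D_eq_top R A) with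
  | zero => simp
  | add x y hx hy => simp only [smul_add, map_add, hx, hy]
  | gen b₀ b =>
    rw [show a • DeRham.gen (KaehlerDifferential.D R A) i b₀ b =
      DeRham.gen (KaehlerDifferential.D R A) i (a * b₀) b from smul_smul _ _ _, hψ, hψ, map_mul]
    exact mul_smul _ _ _

omit hd' in
lemma ψ_wedge {i : ℕ} (a : A) (x : ↥(⋀[A]^i (Ω[A⁄R]))) :
    ψ (i + 1) (wedge (KaehlerDifferential.D R A a) i x) = wedge ((KaehlerDifferential.D R A[X]) (C a)) i (ψ i x) := by
  induction x using gen_induction (KaehlerDifferential.D R A) (span_range_D_eq_top R A) with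
  | zero => simp
  | add x y hx hy => simp only [map_add, hx, hy]
  | gen b₀ b =>
    rw [wedge_gen, hψ, hψ, wedge_gen]
    congr 1
    funext j
    refine Fin.cases ?_ (fun j => ?_) j <;> rfl

lemma L_ψ {i : ℕ} (x : ↥(⋀[A]^i (Ω[A⁄R]))) : L d' i (ψ i x) = 0 := by
  induction x using gen_induction (KaehlerDifferential.D R A) (span_range_D_eq_top R A) with
  | zero => simp
  | add x y hx hy => simp only [map_add, hx, hy, add_zero]
  | gen b₀ b =>
    rw [hψ]
    have hC : ∀ a : A, φ ((KaehlerDifferential.D R A[X]) (algebraMap A A[X] a)) = (0 : A[X]) := fun a => by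
      rw [φ_D]; simp
    have h1 : ∀ (j : ℕ) (c : Fin j → A),
        L d' j (DeRham.gen (KaehlerDifferential.D R A[X]) j 1 fun t => algebraMap A A[X] (c t)) = 0 := by
      intro j
      induction j with
      | zero =>
        intro c
        show contract φ 0 (d' 0 _) = 0
        rw [d_gen_one hd'.1, map_zero]
      | succ j ih =>
        intro c
        rw [show (fun t => algebraMap A A[X] (c t)) =
            Fin.cons (algebraMap A A[X] (c 0)) (fun t => algebraMap A A[X] (c t.succ)) from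
          (Fin.cons_self_tail fun t => algebraMap A A[X] (c t)).symm, ← wedge_gen,
          L_wedge hd', hC, ih, map_zero, map_zero, add_zero]
        simp [wedge]
    rw [show DeRham.gen (KaehlerDifferential.D R A[X]) i (algebraMap A A[X] b₀) (fun t => algebraMap A A[X] (b t)) =
      algebraMap A A[X] b₀ • DeRham.gen (KaehlerDifferential.D R A[X]) i 1 (fun t => algebraMap A A[X] (b t)) by
        simp [DeRham.gen], L_smul hd', hC, h1, zero_smul, smul_zero, add_zero]

/-- Eigenvectors of the Lie derivative of weight `m`. -/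
noncomputable def E (d' : ∀ p : ℕ, (Om R A p) →ₗ[R] (Om R A (p + 1))) (i m : ℕ) : Submodule R (Om R A i) :=
  LinearMap.ker (L d' i - (m : R) • LinearMap.id)

/-- The forms `ψ x + (weights ≥ 1)`. -/
noncomputable def good (d' : ∀ p : ℕ, (Om R A p) →ₗ[R] (Om R A (p + 1)))
    (ψ : ∀ p : ℕ, ↥(⋀[A]^p (Ω[A⁄R])) →+ Om R A p) (i : ℕ) : AddSubgroup (Om R A i) :=
  (ψ i).range ⊔ (⨆ m, E d' i (m + 1)).toAddSubgroup

omit hd' hψ in
lemma mem_E {i m : ℕ} {x : Om R A i} : x ∈ E d' i m ↔ L d' i x = (m : R) • x := by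
  simp [E, sub_eq_zero]

lemma good_map {i j : ℕ} (F : (Om R A i) →+ (Om R A j))
    (h0 : ∀ x, F (ψ i x) ∈ good d' ψ j)
    (h1 : ∀ m, ∀ x ∈ E d' i (m + 1), ∃ n, F x ∈ E d' j (n + 1)) :
    ∀ x ∈ good d' ψ i, F x ∈ good d' ψ j := by
  intro x hx
  obtain ⟨_, ⟨a, rfl⟩, z, hz, rfl⟩ := AddSubgroup.mem_sup.mp hx
  rw [map_add]
  refine add_mem (h0 a) ?_
  refine Submodule.iSup_induction (p := fun m => E d' i (m + 1)) (motive := fun z => F z ∈ good d' ψ j)
    hz (fun m z hz => ?_) (by simp) (fun a b ha hb => by rw [map_add]; exact add_mem ha hb)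
  obtain ⟨n, hn⟩ := h1 m z hz
  exact AddSubgroup.mem_sup_right (Submodule.mem_iSup_of_mem n hn)

lemma good_smul {i : ℕ} (f : A[X]) : ∀ x ∈ good d' ψ i, f • x ∈ good d' ψ i := by
  have hX : ∀ x ∈ good d' ψ i, (X : A[X]) • x ∈ good d' ψ i := by
    refine good_map hd' hψ (DistribMulAction.toAddMonoidHom _ (X : A[X])) (fun x => ?_) (fun m x hx => ?_)
    · refine AddSubgroup.mem_sup_right (Submodule.mem_iSup_of_mem 0 (mem_E.mpr ?_))
      show L d' i ((X : A[X]) • ψ i x) = _
      rw [L_smul hd', L_ψ hd' hψ, φ_D]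
      simp
    · refine ⟨m + 1, mem_E.mpr ?_⟩
      show L d' i ((X : A[X]) • x) = _ • ((X : A[X]) • x)
      rw [L_smul hd', mem_E.mp hx, φ_D, derivative_X, mul_one, smul_comm (X : A[X]) ((m + 1 : ℕ) : R) x,
        Nat.cast_succ (m + 1), add_smul _ (1 : R), one_smul]
      exact add_comm _ _
  have hC : ∀ (a : A), ∀ x ∈ good d' ψ i, C a • x ∈ good d' ψ i := by
    intro a
    refine good_map hd' hψ (DistribMulAction.toAddMonoidHom _ (C a : A[X])) (fun x => ?_) (fun m x hx => ?_)
    · exact AddSubgroup.mem_sup_left ⟨a • x, ψ_smul hψ a x⟩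
    · refine ⟨m, mem_E.mpr ?_⟩
      show L d' i ((C a : A[X]) • x) = _ • ((C a : A[X]) • x)
      rw [L_smul hd', mem_E.mp hx, φ_D, derivative_C, mul_zero, zero_smul, zero_add, smul_comm]
  induction f using Polynomial.induction_on with
  | C a => exact hC a
  | add p q hp hq => intro x hx; rw [add_smul]; exact add_mem (hp x hx) (hq x hx)
  | monomial n a h => intro x hx; rw [pow_succ, ← mul_assoc, mul_smul]; exact h _ (hX x hx)

lemma good_wedge {i : ℕ} (f : A[X]) : ∀ x ∈ good d' ψ i, wedge ((KaehlerDifferential.D R A[X]) f) i x ∈ good d' ψ (i + 1) := by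
  have hX : ∀ x ∈ good d' ψ i, wedge ((KaehlerDifferential.D R A[X]) X) i x ∈ good d' ψ (i + 1) := by
    refine good_map hd' hψ (wedge ((KaehlerDifferential.D R A[X]) X) i).toAddMonoidHom (fun x => ?_) (fun m x hx => ?_)
    · refine AddSubgroup.mem_sup_right (Submodule.mem_iSup_of_mem 0 (mem_E.mpr ?_))
      show L d' (i + 1) (wedge ((KaehlerDifferential.D R A[X]) X) i (ψ i x)) = _
      rw [L_wedge hd', L_ψ hd' hψ, φ_D]
      simp
    · refine ⟨m + 1, mem_E.mpr ?_⟩
      show L d' (i + 1) (wedge ((KaehlerDifferential.D R A[X]) X) i x) = _ • (wedge ((KaehlerDifferential.D R A[X]) X) i x)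
      rw [L_wedge hd', mem_E.mp hx, φ_D, derivative_X, mul_one, LinearMap.map_smul_of_tower,
        Nat.cast_succ (m + 1), add_smul _ (1 : R), one_smul]
      exact add_comm _ _
  have hC : ∀ (a : A), ∀ x ∈ good d' ψ i, wedge ((KaehlerDifferential.D R A[X]) (C a)) i x ∈ good d' ψ (i + 1) := by
    intro a
    refine good_map hd' hψ (wedge ((KaehlerDifferential.D R A[X]) (C a)) i).toAddMonoidHom (fun x => ?_) (fun m x hx => ?_)
    · exact AddSubgroup.mem_sup_left ⟨_, ψ_wedge hψ a x⟩
    · refine ⟨m, mem_E.mpr ?_⟩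
      show L d' (i + 1) (wedge ((KaehlerDifferential.D R A[X]) (C a)) i x) = _ • (wedge ((KaehlerDifferential.D R A[X]) (C a)) i x)
      rw [L_wedge hd', mem_E.mp hx, φ_D, derivative_C, mul_zero, LinearMap.map_smul_of_tower]
      simp [wedge]
  induction f using Polynomial.induction_on with
  | C a => exact hC a
  | add p q hp hq =>
    intro x hx
    rw [map_add, wedge_add]; exact add_mem (hp x hx) (hq x hx)
  | monomial n a h =>
    intro x hx
    rw [pow_succ, ← mul_assoc, Derivation.leibniz, wedge_add, wedge_smul, wedge_smul]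
    exact add_mem (good_smul hd' hψ _ _ (hX x hx)) (good_smul hd' hψ _ _ (h x hx))

lemma mem_good : ∀ (i : ℕ) (y : Om R A i), y ∈ good d' ψ i := by
  have h1 : ∀ (i : ℕ) (b : Fin i → A[X]), DeRham.gen (KaehlerDifferential.D R A[X]) i 1 b ∈ good d' ψ i := by
    intro i
    induction i with
    | zero =>
      intro b
      refine AddSubgroup.mem_sup_left ⟨DeRham.gen (KaehlerDifferential.D R A) 0 1 ![], ?_⟩
      rw [hψ, map_one]
      congr 1
      exact Subsingleton.elim _ _
    | succ i ih =>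
      intro b
      rw [← Fin.cons_self_tail b, ← wedge_gen]
      exact good_wedge hd' hψ _ _ (ih _)
  intro i y
  induction y using gen_induction (KaehlerDifferential.D R A[X]) (span_range_D_eq_top R A[X]) with
  | zero => exact zero_mem _
  | add x y hx hy => exact add_mem hx hy
  | gen b₀ b =>
    rw [show DeRham.gen (KaehlerDifferential.D R A[X]) i b₀ b = b₀ • DeRham.gen (KaehlerDifferential.D R A[X]) i 1 b by simp [DeRham.gen]]
    exact good_smul hd' hψ _ _ (h1 i b)

omit hψ in
lemma eigen_indep [Algebra ℚ R] {i : ℕ} (s : Finset ℕ) (v : ℕ → Om R A i)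
    (hv : ∀ n ∈ s, L d' i (v n) = (n : R) • v n) (h : ∑ n ∈ s, v n = 0) : ∀ n ∈ s, v n = 0 := by
  induction s using Finset.induction_on generalizing v with
  | empty => simp
  | @insert a s ha ih =>
    have h2 : ∀ n ∈ s, ((n : R) - (a : R)) • v n = 0 := by
      refine ih (fun n => ((n : R) - (a : R)) • v n) (fun n hn => ?_) ?_
      · show L d' i (((n : R) - (a : R)) • v n) = _
        rw [map_smul, hv n (Finset.mem_insert_of_mem hn), smul_comm]
      · have h3 := congrArg (L d' i) h
        rw [map_sum, map_zero, Finset.sum_congr rfl hv] at h3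
        have h4 := congrArg ((a : R) • ·) h
        simp only [Finset.smul_sum, smul_zero] at h4
        rw [Finset.sum_insert ha] at h3 h4
        show ∑ n ∈ s, (((n : ℕ) : R) - (a : R)) • v n = 0
        rw [Finset.sum_congr rfl fun (n : ℕ) _ => sub_smul (n : R) (a : R) (v n), Finset.sum_sub_distrib]
        rw [eq_neg_of_add_eq_zero_right h3, eq_neg_of_add_eq_zero_right h4, sub_self]
    have h5 : ∀ n ∈ s, v n = 0 := by
      intro n hn
      have hu : IsUnit ((n : R) - (a : R)) := by
        have : (IsUnit ((n : ℚ) - (a : ℚ))) := by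
          refine IsUnit.mk0 _ (sub_ne_zero.mpr ?_)
          exact_mod_cast (fun h : n = a => ha (by rwa [h] at hn))
        simpa using this.map (algebraMap ℚ R)
      exact (hu.smul_eq_zero).mp (h2 n hn)
    intro n hn
    rcases Finset.mem_insert.mp hn with rfl | hn
    · rw [Finset.sum_insert ha, Finset.sum_eq_zero h5, add_zero] at h
      exact h
    · exact h5 n hn

variable [Algebra ℚ R] {d : ∀ p : ℕ, ↥(⋀[A]^p (Ω[A⁄R])) →ₗ[R] ↥(⋀[A]^(p + 1) (Ω[A⁄R]))}
  (hd : DeRham.IsDiff (KaehlerDifferential.D R A) d)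

section Retraction

omit hd' hψ in
/-- The retraction induced by `X ↦ 0`. -/
theorem exists_retraction (hd' : DeRham.IsDiff (KaehlerDifferential.D R A[X]) d') (hd : DeRham.IsDiff (KaehlerDifferential.D R A) d)
    (hψ : DeRham.IsCxMap (KaehlerDifferential.D R A) (KaehlerDifferential.D R A[X]) (algebraMap A A[X]) ψ) :
    ∃ χ : ∀ i, (Om R A i) →+ ↥(⋀[A]^i (Ω[A⁄R])),
      (∀ i x, χ i (ψ i x) = x) ∧ (∀ i y, χ (i + 1) (d' i y) = d i (χ i y)) := by
  letI : Algebra A[X] A := (Polynomial.aeval (0 : A)).toRingHom.toAlgebra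
  haveI : IsScalarTower R A[X] A := IsScalarTower.of_algebraMap_eq fun r => by
    show algebraMap R A r = Polynomial.aeval (0 : A) (algebraMap R A[X] r)
    rw [IsScalarTower.algebraMap_apply R A A[X]]
    simp
  let χ : ∀ i, (Om R A i) →+ ↥(⋀[A]^i (Ω[A⁄R])) := fun i =>
    (semimap (B := A) (KaehlerDifferential.map R R A[X] A) i).toAddMonoidHom
  have hg : ∀ (i : ℕ) (b₀ : A[X]) (b : Fin i → A[X]), χ i (DeRham.gen (KaehlerDifferential.D R A[X]) i b₀ b) =
      DeRham.gen (KaehlerDifferential.D R A) i (b₀.eval 0) (fun t => (b t).eval 0) := by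
    intro i b₀ b
    show semimap (B := A) (KaehlerDifferential.map R R A[X] A) i _ = _
    rw [DeRham.gen, map_smul, semimap_ιMulti, ← algebraMap_smul A b₀]
    have e : ∀ f : A[X], algebraMap A[X] A f = f.eval 0 := fun f => by
      show Polynomial.aeval (0 : A) f = _
      simp
    rw [e, DeRham.gen]
    congr 2
    funext t
    simp [KaehlerDifferential.map_D, e]
  refine ⟨χ, fun i x => ?_, fun i y => ?_⟩
  · induction x using gen_induction (KaehlerDifferential.D R A) (span_range_D_eq_top R A) with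
    | zero => simp
    | add x y hx hy => simp only [map_add, hx, hy]
    | gen b₀ b => rw [hψ, hg]; simp
  · induction y using gen_induction (KaehlerDifferential.D R A[X]) (span_range_D_eq_top R A[X]) with
    | zero => simp
    | add x y hx hy => simp only [map_add, hx, hy]
    | gen b₀ b =>
      rw [d_gen hd'.1, hg, hg, d_gen hd.1]
      congr 1
      · simp
      · funext t
        refine Fin.cases ?_ (fun j => ?_) t <;> rfl

end Retraction

include hd

theorem main (hcomm : ∀ (p : ℕ) (x : ↥(⋀[A]^p (Ω[A⁄R]))), ψ (p + 1) (d p x) = d' p (ψ p x)) (i : ℕ) :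
    (∀ y ∈ DeRham.cocycles d' i, ∃ x ∈ DeRham.cocycles d i, y - ψ i x ∈ DeRham.coboundaries d' i) ∧
      (∀ x ∈ DeRham.cocycles d i, ψ i x ∈ DeRham.coboundaries d' i → x ∈ DeRham.coboundaries d i) := by
  classical
  obtain ⟨χ, hχ, hχd⟩ := exists_retraction hd' hd hψ
  refine ⟨fun y hy => ?_, fun x _ hx => ?_⟩
  · obtain ⟨_, ⟨x, rfl⟩, z, hz, rfl⟩ := AddSubgroup.mem_sup.mp (mem_good hd' hψ i y)
    obtain ⟨w, hw⟩ := (Submodule.mem_iSup_iff_exists_finsupp _ _).mp hz
    obtain ⟨hwm, rfl⟩ := hw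
    have hy' : d' i (ψ i x + w.sum fun _ x => x) = 0 := hy
    let v : ℕ → Om R A (i + 1) := fun n => if n = 0 then d' i (ψ i x) else d' i (w (n - 1))
    have hv0 := eigen_indep hd' (insert 0 (w.support.image (· + 1))) v (fun n _ => by
        simp only [v]
        split_ifs with h
        · subst h
          rw [← hcomm, L_ψ hd' hψ, Nat.cast_zero, zero_smul]
        · rw [← d_L hd', mem_E.mp (hwm (n - 1)), map_smul, Nat.sub_add_cancel (Nat.pos_of_ne_zero h)])
      (by
        rw [Finset.sum_insert (by simp), Finset.sum_image (fun a _ b _ h => Nat.succ_injective h)]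
        simpa [v, Finsupp.sum, map_sum] using hy')
    have hx0 : d i x = 0 := by
      have := congrArg (χ (i + 1)) (hv0 0 (Finset.mem_insert_self _ _))
      simpa [v, ← hcomm, hχ] using this
    refine ⟨x, hx0, ?_⟩
    rw [add_sub_cancel_left, Finsupp.sum]
    refine Submodule.sum_mem _ fun n hn => ?_
    have hn0 : d' i (w n) = 0 := by
      have := hv0 (n + 1) (Finset.mem_insert_of_mem (Finset.mem_image_of_mem _ hn))
      simpa [v] using this
    have h := L_mem_coboundaries hd' (w n) hn0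
    rw [mem_E.mp (hwm n)] at h
    have hu : IsUnit ((n + 1 : ℕ) : R) := by
      simpa using (IsUnit.mk0 ((n : ℚ) + 1) (by positivity)).map (algebraMap ℚ R)
    exact (Submodule.smul_mem_iff_of_isUnit _ hu).mp h
  · cases i with
    | zero =>
      have h : ψ 0 x = 0 := hx
      rw [← hχ 0 x, h, map_zero]; exact zero_mem _
    | succ p =>
      obtain ⟨η, hη⟩ := hx
      exact ⟨χ p η, by rw [← hχd, hη, hχ]⟩

end Groth.Agent.H19.PolyHomotopy
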