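import Mathlib.LinearAlgebra.TensorProduct.Tower
import Mathlib.LinearAlgebra.TensorProduct.RightExactness
import Mathlib.LinearAlgebra.TensorProduct.Quotient
import Mathlib.RingTheory.Ideal.Quotient.Operations
import Mathlib.Algebra.Module.Projective
import Mathlib.LinearAlgebra.Projection

/-!
Lifting direct summands along a square-zero quotient, compatibly with an extension.
-/

universe u v

open TensorProduct

namespace Groth.Agent.H19.SummandLift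

variable {R : Type u} [CommRing R] (𝔫 : Ideal R) {M : Type v} [AddCommGroup M] [Module R M]

/-- Reduction modulo `𝔫`. -/
noncomputable def red : M →ₗ[R] (R ⧸ 𝔫) ⊗[R] M := TensorProduct.mk R (R ⧸ 𝔫) M 1

lemma red_surjective : Function.Surjective (red 𝔫 (M := M)) := by
  intro z
  induction z with
  | zero => exact ⟨0, map_zero _⟩
  | tmul c x =>
    obtain ⟨r, rfl⟩ := Ideal.Quotient.mk_surjective c
    refine ⟨r • x, ?_⟩
    show (1 : R ⧸ 𝔫) ⊗ₜ[R] (r • x) = _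
    rw [← TensorProduct.smul_tmul, Algebra.smul_def, mul_one]
    rfl
  | add a b ha hb =>
    obtain ⟨x, rfl⟩ := ha; obtain ⟨y, rfl⟩ := hb
    exact ⟨x + y, map_add _ _ _⟩

lemma red_eq_zero_iff {x : M} : red 𝔫 x = 0 ↔ x ∈ 𝔫 • (⊤ : Submodule R M) := by
  show (1 : R ⧸ 𝔫) ⊗ₜ[R] x = 0 ↔ _
  rw [← (TensorProduct.quotTensorEquivQuotSMul M 𝔫).map_eq_zero_iff, ← map_one (Ideal.Quotient.mk 𝔫),
    TensorProduct.quotTensorEquivQuotSMul_mk_tmul, one_smul, Submodule.Quotient.mk_eq_zero]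

lemma mem_baseChange {p : Submodule R M} {z : (R ⧸ 𝔫) ⊗[R] M} :
    z ∈ p.baseChange (R ⧸ 𝔫) ↔ ∃ x ∈ p, red 𝔫 x = z := by
  constructor
  · intro hz
    rw [Submodule.baseChange_eq_span] at hz
    induction hz using Submodule.span_induction with
    | mem x hx => exact hx
    | zero => exact ⟨0, zero_mem _, map_zero _⟩
    | add a b _ _ ha hb =>
      obtain ⟨x, hx, rfl⟩ := ha; obtain ⟨y, hy, rfl⟩ := hb
      exact ⟨x + y, add_mem hx hy, map_add _ _ _⟩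
    | smul c a _ ha =>
      obtain ⟨x, hx, rfl⟩ := ha
      obtain ⟨r, rfl⟩ := Ideal.Quotient.mk_surjective c
      exact ⟨r • x, p.smul_mem r hx, by rw [map_smul]; exact algebra_compatible_smul (R ⧸ 𝔫) r _⟩
  · rintro ⟨x, hx, rfl⟩
    exact Submodule.tmul_mem_baseChange_of_mem 1 hx

lemma red_map {N : Type v} [AddCommGroup N] [Module R N] (f : M →ₗ[R] N) (x : M) :
    f.baseChange (R ⧸ 𝔫) (red 𝔫 x) = red 𝔫 (f x) := LinearMap.baseChange_tmul f 1 x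

section Setup

variable {H₁ H H₂ : Type v} [AddCommGroup H₁] [Module R H₁] [AddCommGroup H] [Module R H]
  [AddCommGroup H₂] [Module R H₂]
  {f : H₁ →ₗ[R] H} {g : H →ₗ[R] H₂} (hf : Function.Injective f) (hg : Function.Surjective g)
  (hfg : Function.Exact f g)
  {F₁ : Submodule R H₁} {F₂ : Submodule R H₂}
  {Fb : Submodule (R ⧸ 𝔫) ((R ⧸ 𝔫) ⊗[R] H)}
  (h1 : Fb ⊓ LinearMap.range (f.baseChange (R ⧸ 𝔫)) =
    Submodule.map (f.baseChange (R ⧸ 𝔫)) (F₁.baseChange (R ⧸ 𝔫)))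
  (h2 : Submodule.map (g.baseChange (R ⧸ 𝔫)) Fb = F₂.baseChange (R ⧸ 𝔫))

lemma exists_isCompl (p : Submodule R M) [Module.Projective R (M ⧸ p)] : ∃ C, IsCompl p C := by
  obtain ⟨s, hs⟩ := Module.projective_lifting_property p.mkQ LinearMap.id p.mkQ_surjective
  have hs' : ∀ q, p.mkQ (s q) = q := fun q => LinearMap.congr_fun hs q
  refine ⟨LinearMap.range s, ?_, ?_⟩
  · rw [Submodule.disjoint_def]
    rintro _ hx ⟨q, rfl⟩
    have h := hs' q
    rw [Submodule.mkQ_apply, (Submodule.Quotient.mk_eq_zero p).mpr hx] at h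
    rw [← h, map_zero]
  · rw [codisjoint_iff, eq_top_iff]
    intro x _
    refine Submodule.mem_sup.mpr ⟨x - s (p.mkQ x), ?_, s (p.mkQ x), ⟨_, rfl⟩, sub_add_cancel _ _⟩
    rw [← Submodule.Quotient.mk_eq_zero, ← Submodule.mkQ_apply, map_sub, hs', sub_self]

include hf hg hfg in
lemma exists_retraction [Module.Projective R H₂] : ∃ r : H →ₗ[R] H₁, ∀ a, r (f a) = a := by
  obtain ⟨s, hs⟩ := Module.projective_lifting_property g LinearMap.id hg
  let e := LinearEquiv.ofInjective f hf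
  let q : H →ₗ[R] LinearMap.range f := (LinearMap.id - s ∘ₗ g).codRestrict _ fun x => by
    rw [← hfg.linearMap_ker_eq, LinearMap.mem_ker, LinearMap.sub_apply, map_sub, LinearMap.id_apply,
      LinearMap.comp_apply, show g (s (g x)) = g x from LinearMap.congr_fun hs (g x), sub_self]
  refine ⟨e.symm.toLinearMap ∘ₗ q, fun a => ?_⟩
  apply e.injective
  ext
  simp [e, q, hfg.apply_apply_eq_zero]

include hg h2 in
lemma exists_lift (y : H₂) (hy : y ∈ F₂) : ∃ x : H, red 𝔫 x ∈ Fb ∧ g x = y := by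
  obtain ⟨z, hz, e⟩ := (h2.ge ((mem_baseChange 𝔫).mpr ⟨y, hy, rfl⟩) : red 𝔫 y ∈ Submodule.map _ Fb)
  obtain ⟨x, rfl⟩ := red_surjective 𝔫 z
  have h : g x - y ∈ 𝔫 • (⊤ : Submodule R H₂) := by
    rw [← red_eq_zero_iff, map_sub, ← red_map, e, sub_self]
  rw [← LinearMap.range_eq_top.mpr hg, ← Submodule.map_top, ← Submodule.map_smul''] at h
  obtain ⟨w, hw, hw'⟩ := h
  refine ⟨x - w, ?_, by rw [map_sub, hw', sub_sub_cancel]⟩
  rw [map_sub, (red_eq_zero_iff 𝔫).mpr hw, sub_zero]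
  exact hz

include hf hfg hg h1 in
lemma exists_eq_of_red_mem [Module.Projective R H₂] (x : H) (hx : red 𝔫 x ∈ Fb) (hx' : g x = 0) :
    ∃ a ∈ F₁, ∃ b ∈ 𝔫 • (⊤ : Submodule R H₁), x = f (a + b) := by
  obtain ⟨c, rfl⟩ := (hfg x).mp hx'
  have : red 𝔫 (f c) ∈ Fb ⊓ LinearMap.range (f.baseChange (R ⧸ 𝔫)) :=
    ⟨hx, ⟨red 𝔫 c, red_map 𝔫 f c⟩⟩
  rw [h1] at this
  obtain ⟨z, hz, e⟩ := this
  obtain ⟨a, ha, rfl⟩ := (mem_baseChange 𝔫).mp hz
  rw [red_map] at e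
  have h0 : f a - f c ∈ 𝔫 • (⊤ : Submodule R H) := by
    rw [← red_eq_zero_iff, map_sub, e, sub_self]
  rw [← map_sub] at h0
  obtain ⟨r, hr⟩ := exists_retraction hf hg hfg
  refine ⟨a, ha, c - a, ?_, by rw [add_sub_cancel]⟩
  have h := Submodule.mem_map_of_mem (f := r) h0
  rw [Submodule.map_smul'', hr] at h
  have := Submodule.smul_mono le_rfl (le_top : Submodule.map r ⊤ ≤ ⊤) h
  simpa using neg_mem this

include hf hg hfg h1 h2 in
/-- Existence of a compatible lift. -/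
theorem exists_summand [Module.Projective R H₂] [Module.Projective R (H₁ ⧸ F₁)]
    [Module.Projective R (H₂ ⧸ F₂)] :
    ∃ F : Submodule R H, (∃ C : Submodule R H, IsCompl F C) ∧
      F ⊓ LinearMap.range f = Submodule.map f F₁ ∧
      F.baseChange (R ⧸ 𝔫) = Fb ∧ Submodule.map g F = F₂ := by
  obtain ⟨C₁, hC₁⟩ := exists_isCompl F₁
  obtain ⟨C₂, hC₂⟩ := exists_isCompl F₂
  haveI : Module.Projective R F₂ :=
    Module.Projective.of_split F₂.subtype (F₂.projectionOnto C₂ hC₂)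
      (LinearMap.ext fun y => Submodule.projectionOnto_apply_left hC₂ y)
  let P : Submodule R H := (Fb.restrictScalars R).comap (red 𝔫) ⊓ F₂.comap g
  let gP : P →ₗ[R] F₂ := (g ∘ₗ P.subtype).codRestrict F₂ fun x => x.2.2
  obtain ⟨φ, hφ⟩ := Module.projective_lifting_property gP LinearMap.id (fun y => by
    obtain ⟨x, hx, hxy⟩ := exists_lift 𝔫 hg h2 (y : H₂) y.2
    exact ⟨⟨x, hx, show g x ∈ F₂ by rw [hxy]; exact y.2⟩, Subtype.ext hxy⟩)
  set ψ : F₂ →ₗ[R] H := P.subtype ∘ₗ φ with hψdef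
  have hgψ : ∀ y, g (ψ y) = y := fun y => congrArg Subtype.val (LinearMap.congr_fun hφ y)
  have hψb : ∀ y, red 𝔫 (ψ y) ∈ Fb := fun y => (φ y).2.1
  obtain ⟨s, hs⟩ := Module.projective_lifting_property g LinearMap.id hg
  have hs' : ∀ y, g (s y) = y := fun y => LinearMap.congr_fun hs y
  set F : Submodule R H := Submodule.map f F₁ ⊔ LinearMap.range ψ with hFdef
  refine ⟨F, ⟨Submodule.map f C₁ ⊔ Submodule.map s C₂, ?_, ?_⟩, ?_, ?_, ?_⟩
  · rw [Submodule.disjoint_def]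
    intro x hx hx'
    obtain ⟨_, ⟨a, ha, rfl⟩, _, ⟨y, rfl⟩, rfl⟩ := Submodule.mem_sup.mp hx
    obtain ⟨_, ⟨c, hc, rfl⟩, _, ⟨z, hz, rfl⟩, e⟩ := Submodule.mem_sup.mp hx'
    have hy := congrArg g e
    simp only [map_add, hfg.apply_apply_eq_zero, zero_add, hgψ, hs'] at hy
    have hy0 : y = 0 := Subtype.ext (Submodule.disjoint_def.mp hC₂.disjoint _ y.2 (hy ▸ hz))
    have hz0 : z = 0 := by rw [hy, hy0]; rfl
    rw [hy0, hz0, map_zero, map_zero, add_zero, add_zero] at e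
    rw [hy0, map_zero, add_zero, ← e, Submodule.disjoint_def.mp hC₁.disjoint c ((hf e).symm ▸ ha) hc,
      map_zero]
  · rw [codisjoint_iff, eq_top_iff]
    intro x _
    obtain ⟨y, hy, z, hz, e⟩ := Submodule.mem_sup.mp (hC₂.sup_eq_top ▸ Submodule.mem_top : g x ∈ F₂ ⊔ C₂)
    obtain ⟨w, hw⟩ := (hfg (x - ψ ⟨y, hy⟩ - s z)).mp (by rw [map_sub, map_sub, hgψ, hs', ← e]; simp)
    obtain ⟨a, ha, c, hc, e'⟩ := Submodule.mem_sup.mp (hC₁.sup_eq_top ▸ Submodule.mem_top : w ∈ F₁ ⊔ C₁)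
    refine Submodule.mem_sup.mpr ⟨f a + ψ ⟨y, hy⟩,
      Submodule.add_mem_sup (Submodule.mem_map_of_mem ha) ⟨_, rfl⟩, f c + s z,
      Submodule.add_mem_sup (Submodule.mem_map_of_mem hc) (Submodule.mem_map_of_mem hz), ?_⟩
    rw [← e', map_add] at hw
    rw [show f a + ψ ⟨y, hy⟩ + (f c + s z) = (f a + f c) + ψ ⟨y, hy⟩ + s z by abel, hw]
    abel
  · refine le_antisymm ?_ (le_inf le_sup_left (LinearMap.map_le_range))
    rintro x ⟨hx, hx'⟩
    obtain ⟨_, ⟨a, ha, rfl⟩, _, ⟨y, rfl⟩, rfl⟩ := Submodule.mem_sup.mp hx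
    obtain ⟨c, hc⟩ := hx'
    have hy := congrArg g hc
    simp only [map_add, hfg.apply_apply_eq_zero, zero_add, hgψ] at hy
    rw [show y = 0 from Subtype.ext hy.symm, map_zero, add_zero]
    exact Submodule.mem_map_of_mem ha
  · refine le_antisymm (fun z hz => ?_) (fun z hz => ?_)
    · obtain ⟨x, hx, rfl⟩ := (mem_baseChange 𝔫).mp hz
      obtain ⟨_, ⟨a, ha, rfl⟩, _, ⟨y, rfl⟩, rfl⟩ := Submodule.mem_sup.mp hx
      rw [map_add]
      refine add_mem (h1.ge ?_).1 (hψb y)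
      exact ⟨red 𝔫 a, (mem_baseChange 𝔫).mpr ⟨a, ha, rfl⟩, red_map 𝔫 f a⟩
    · obtain ⟨x, rfl⟩ := red_surjective 𝔫 z
      obtain ⟨y, hy, e⟩ := (mem_baseChange 𝔫).mp
        (h2.le ⟨red 𝔫 x, hz, red_map 𝔫 g x⟩)
      have hmem : g x - y ∈ 𝔫 • (⊤ : Submodule R H₂) := by
        rw [← red_eq_zero_iff, map_sub, e, sub_self]
      rw [← LinearMap.range_eq_top.mpr hg, ← Submodule.map_top, ← Submodule.map_smul''] at hmem
      obtain ⟨w, hw, hw'⟩ := hmem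
      have hw0 : red 𝔫 w = 0 := (red_eq_zero_iff 𝔫).mpr hw
      obtain ⟨a, ha, b, hb, e'⟩ := exists_eq_of_red_mem 𝔫 hf hg hfg h1 (x - w - ψ ⟨y, hy⟩)
        (by rw [map_sub, map_sub, hw0, sub_zero]; exact sub_mem hz (hψb _))
        (by rw [map_sub, map_sub, hgψ, hw']; simp)
      refine (mem_baseChange 𝔫).mpr ⟨f a + ψ ⟨y, hy⟩,
        Submodule.add_mem_sup (Submodule.mem_map_of_mem ha) ⟨_, rfl⟩, ?_⟩
      have hb0 : red 𝔫 (f b) = 0 := by
        rw [← red_map, (red_eq_zero_iff 𝔫).mpr hb, map_zero]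
      have h5 := congrArg (red 𝔫) e'
      simp only [map_sub, map_add, hw0, hb0, sub_zero, add_zero] at h5 ⊢
      rw [← h5, sub_add_cancel]
  · refine le_antisymm ?_ fun y hy => ⟨ψ ⟨y, hy⟩, Submodule.mem_sup_right ⟨_, rfl⟩, hgψ _⟩
    rintro _ ⟨x, hx, rfl⟩
    obtain ⟨_, ⟨a, ha, rfl⟩, _, ⟨y, rfl⟩, rfl⟩ := Submodule.mem_sup.mp hx
    rw [map_add, hfg.apply_apply_eq_zero, zero_add, hgψ]
    exact y.2

variable (f g) in
/-- Being a lift of the data. -/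
def IsLift (F₁ : Submodule R H₁) (F₂ : Submodule R H₂)
    (Fb : Submodule (R ⧸ 𝔫) ((R ⧸ 𝔫) ⊗[R] H)) (F : Submodule R H) : Prop :=
  (∃ C : Submodule R H, IsCompl F C) ∧
      F ⊓ LinearMap.range f = Submodule.map f F₁ ∧
      Submodule.baseChange (R ⧸ 𝔫) F = Fb ∧ Submodule.map g F = F₂

include hfg in
theorem torsor_mem {F : Submodule R H} (hF : IsLift 𝔫 f g F₁ F₂ Fb F) (u : H₂ →ₗ[R] H₁)
    (hu : ∀ y, u y ∈ 𝔫 • (⊤ : Submodule R H₁)) :
    IsLift 𝔫 f g F₁ F₂ Fb (Submodule.map (LinearMap.id + f ∘ₗ u ∘ₗ g) F) := by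
  obtain ⟨⟨C, hC⟩, hFf, hFb, hFg⟩ := hF
  have hgT : ∀ x, g (x + f (u (g x))) = g x := fun x => by
    rw [map_add, hfg.apply_apply_eq_zero, add_zero]
  let T : H ≃ₗ[R] H := LinearEquiv.ofLinearMap (LinearMap.id + f ∘ₗ u ∘ₗ g) (LinearMap.id - f ∘ₗ u ∘ₗ g)
    (LinearMap.ext fun x => by simp [hfg.apply_apply_eq_zero])
    (LinearMap.ext fun x => by simp [hfg.apply_apply_eq_zero])
  refine ⟨⟨Submodule.map T.toLinearMap C, (hC.map (Submodule.orderIsoMapComap T))⟩, ?_, ?_, ?_⟩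
  · refine le_antisymm ?_ ?_
    · rintro _ ⟨⟨x, hx, rfl⟩, c, hc⟩
      have hgx : g x = 0 := by
        have := congrArg g hc
        simpa [hfg.apply_apply_eq_zero] using this.symm
      rw [← hFf]
      simp only [LinearMap.add_apply, LinearMap.id_apply, LinearMap.comp_apply, hgx, map_zero,
        add_zero] at hc ⊢
      exact ⟨hx, c, hc⟩
    · rintro _ ⟨a, ha, rfl⟩
      have hfa : f a ∈ F := (hFf.ge (Submodule.mem_map_of_mem ha)).1
      exact ⟨⟨f a, hfa, by simp [hfg.apply_apply_eq_zero]⟩, ⟨a, rfl⟩⟩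
  · have key : ∀ x, red 𝔫 (x + f (u (g x))) = red 𝔫 x := fun x => by
      rw [map_add, ← red_map 𝔫 f (u (g x)), (red_eq_zero_iff 𝔫).mpr (hu (g x)), map_zero, add_zero]
    rw [← hFb]
    refine Submodule.ext fun z => ?_
    simp only [mem_baseChange]
    constructor
    · rintro ⟨_, ⟨x, hx, rfl⟩, rfl⟩; exact ⟨x, hx, (key x).symm⟩
    · rintro ⟨x, hx, rfl⟩; exact ⟨_, ⟨x, hx, rfl⟩, key x⟩
  · rw [← hFg, ← Submodule.map_comp]
    exact congrArg (fun l => Submodule.map l F) (LinearMap.ext hgT)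

include hf hfg in
theorem torsor_eq_iff [Module.Projective R (H₁ ⧸ F₁)] {F : Submodule R H}
    (hF : IsLift 𝔫 f g F₁ F₂ Fb F) (u : H₂ →ₗ[R] H₁)
    (hu : ∀ y, u y ∈ 𝔫 • (⊤ : Submodule R H₁)) :
    Submodule.map (LinearMap.id + f ∘ₗ u ∘ₗ g) F = F ↔ ∀ y ∈ F₂, u y ∈ 𝔫 • F₁ := by
  obtain ⟨-, hFf, -, hFg⟩ := hF
  constructor
  · intro h y hy
    obtain ⟨x, hx, rfl⟩ := hFg.ge hy
    have hTx : x + f (u (g x)) ∈ F := h.le ⟨x, hx, rfl⟩
    obtain ⟨a, ha, e⟩ := hFf.le ⟨(add_mem_cancel_left hx).mp hTx, ⟨_, rfl⟩⟩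
    rw [← hf e]
    obtain ⟨C₁, hC₁⟩ := exists_isCompl F₁
    have h2' := Submodule.mem_map_of_mem (f := F₁.projectionOnto C₁ hC₁) (hu (g x))
    rw [← hf e, Submodule.map_smul''] at h2'
    have h3 := Submodule.mem_map_of_mem (f := F₁.subtype) h2'
    rw [Submodule.map_smul'', Submodule.subtype_apply] at h3
    rw [show (F₁.projectionOnto C₁ hC₁ a : H₁) = a from
      congrArg Subtype.val (Submodule.projectionOnto_apply_left hC₁ ⟨a, ha⟩)] at h3
    exact Submodule.smul_mono le_rfl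
      ((Submodule.map_mono le_top).trans (Submodule.map_subtype_top F₁).le) h3
  · intro h
    have hmem : ∀ x ∈ F, f (u (g x)) ∈ F := fun x hx =>
      (hFf.ge (Submodule.mem_map_of_mem
        (Submodule.smul_le_right (h _ (hFg.le (Submodule.mem_map_of_mem hx)))))).1
    refine le_antisymm ?_ fun x hx => ?_
    · rintro _ ⟨x, hx, rfl⟩
      exact add_mem hx (hmem x hx)
    · exact ⟨x - f (u (g x)), sub_mem hx (hmem x hx), by simp [hfg.apply_apply_eq_zero]⟩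

include hf hg hfg h1 in
theorem torsor_transitive [Module.Projective R H₂] [Module.Projective R (H₂ ⧸ F₂)]
    {F F' : Submodule R H} (hF : IsLift 𝔫 f g F₁ F₂ Fb F) (hF' : IsLift 𝔫 f g F₁ F₂ Fb F') :
    ∃ u : H₂ →ₗ[R] H₁, (∀ y, u y ∈ 𝔫 • (⊤ : Submodule R H₁)) ∧
      F' = Submodule.map (LinearMap.id + f ∘ₗ u ∘ₗ g) F := by
  obtain ⟨-, hFf, hFb, hFg⟩ := hF
  obtain ⟨-, hFf', hFb', hFg'⟩ := hF'
  obtain ⟨C₂, hC₂⟩ := exists_isCompl F₂
  haveI : Module.Projective R F₂ :=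
    Module.Projective.of_split F₂.subtype (F₂.projectionOnto C₂ hC₂)
      (LinearMap.ext fun y => Submodule.projectionOnto_apply_left hC₂ y)
  let N₁ : Submodule R H₁ := 𝔫 • ⊤
  let Q : Submodule R (H × N₁) :=
    F.comap (LinearMap.fst R H N₁) ⊓
      F'.comap (LinearMap.fst R H N₁ + f ∘ₗ N₁.subtype ∘ₗ LinearMap.snd R H N₁)
  let gQ : Q →ₗ[R] F₂ := (g ∘ₗ LinearMap.fst R H N₁ ∘ₗ Q.subtype).codRestrict F₂ fun q =>
    hFg.le (Submodule.mem_map_of_mem q.2.1)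
  obtain ⟨φ, hφ⟩ := Module.projective_lifting_property gQ LinearMap.id (fun y => by
    obtain ⟨x, hx, e⟩ := hFg.ge y.2
    obtain ⟨x', hx', e'⟩ := hFg'.ge y.2
    obtain ⟨a, ha, b, hb, e''⟩ := exists_eq_of_red_mem 𝔫 hf hg hfg h1 (x' - x)
      (by
        rw [map_sub]
        exact sub_mem (hFb'.le ((mem_baseChange 𝔫).mpr ⟨x', hx', rfl⟩))
          (hFb.le ((mem_baseChange 𝔫).mpr ⟨x, hx, rfl⟩)))
      (by rw [map_sub, e, e', sub_self])
    refine ⟨⟨(x + f a, ⟨b, hb⟩), add_mem hx (hFf.ge (Submodule.mem_map_of_mem ha)).1, ?_⟩, ?_⟩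
    · show x + f a + f b ∈ F'
      rw [add_assoc, ← map_add, ← e'', add_sub_cancel]
      exact hx'
    · refine Subtype.ext ?_
      show g (x + f a) = y
      rw [map_add, hfg.apply_apply_eq_zero, add_zero, e])
  refine ⟨(N₁.subtype ∘ₗ LinearMap.snd R H N₁ ∘ₗ Q.subtype ∘ₗ φ) ∘ₗ F₂.projectionOnto C₂ hC₂,
    fun y => (((φ _).1).2).2, ?_⟩
  set u := (N₁.subtype ∘ₗ LinearMap.snd R H N₁ ∘ₗ Q.subtype ∘ₗ φ) ∘ₗ F₂.projectionOnto C₂ hC₂
  have hle : ∀ x ∈ F, x + f (u (g x)) ∈ F' := by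
    intro x hx
    have hy : g x ∈ F₂ := hFg.le (Submodule.mem_map_of_mem hx)
    set q := φ ⟨g x, hy⟩ with hq
    have hu : u (g x) = (q.1.2 : H₁) := by
      simp only [u, LinearMap.comp_apply]
      rw [show F₂.projectionOnto C₂ hC₂ (g x) = ⟨g x, hy⟩ from
        Submodule.projectionOnto_apply_left hC₂ ⟨g x, hy⟩]
      rfl
    have hgq : g q.1.1 = g x := congrArg Subtype.val (LinearMap.congr_fun hφ ⟨g x, hy⟩)
    have hd : x - q.1.1 ∈ F ⊓ LinearMap.range f :=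
      ⟨sub_mem hx q.2.1, (hfg _).mp (by rw [map_sub, hgq, sub_self])⟩
    rw [hFf, ← hFf'] at hd
    rw [hu, show x + f (q.1.2 : H₁) = (x - q.1.1) + (q.1.1 + f (q.1.2 : H₁)) by abel]
    exact add_mem hd.1 q.2.2
  refine le_antisymm (fun x' hx' => ?_) ?_
  · obtain ⟨x, hx, e⟩ := hFg.ge (hFg'.le (Submodule.mem_map_of_mem hx'))
    have hd : x' - (x + f (u (g x))) ∈ F' ⊓ LinearMap.range f :=
      ⟨sub_mem hx' (hle x hx), (hfg _).mp (by
        rw [map_sub, map_add, hfg.apply_apply_eq_zero, add_zero, e, sub_self])⟩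
    rw [hFf'] at hd
    obtain ⟨a, ha, e'⟩ := hd
    refine ⟨x + f a, add_mem hx (hFf.ge (Submodule.mem_map_of_mem ha)).1, ?_⟩
    simp only [LinearMap.add_apply, LinearMap.id_apply, LinearMap.comp_apply, map_add,
      hfg.apply_apply_eq_zero, map_zero, add_zero]
    rw [e']; abel
  · rintro _ ⟨x, hx, rfl⟩
    exact hle x hx

end Setup

end Groth.Agent.H19.SummandLift
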